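import Groth.Agent.Curv2.K96.NormalSch
import Groth.Agent.CurvesB.NodeSch2
import Groth.Agent.CurvesC.RegNormal
import Groth.Agent.VarietyA.RegSmoothSch
import Groth.Prelude.Def_Pi1

/-!
# Normality of total spaces: the generic fibre

* `normal_of_smooth_generic`: flat families of geometrically reduced curves over a normal integral
  Noetherian base with smooth generic fibre have normal total space.
-/

set_option autoImplicit false

universe u

open AlgebraicGeometry CategoryTheory IsLocalRing

namespace Groth.Agent.Curv2.K96.NormalGen

open NormalSch Groth.Agent.Flat2D.FiberStalk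

/-- A point of an integral scheme with zero-dimensional local ring is the generic point. -/
theorem eq_genericPoint {S : Scheme.{u}} [IsIntegral S] (s : S)
    (h : ringKrullDim (S.presheaf.stalk s) = 0) : s = genericPoint S := by
  have h1 : genericPoint S ⤳ s := genericPoint_specializes s
  by_contra hne
  have h2 := ringKrullDim_stalk_eq_coheight s
  rw [h2] at h
  have h3 : s < genericPoint S := by
    refine lt_of_le_not_ge (show s ≤ genericPoint S from h1) ?_
    intro h5
    have h6 : s ⤳ genericPoint S := h5
    exact hne (h6.antisymm h1).eq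
  have h4 : Order.coheight s ≠ 0 := by
    rw [Ne, Order.coheight_eq_zero]
    intro h5
    exact absurd (h5 h3.le) (not_le_of_gt h3)
  exact h4 (by exact_mod_cast h)

/-- At points over the generic point the local ring is the local ring of the fibre. -/
theorem stalk_equiv_of_isField {X S : Scheme.{u}} (f : X ⟶ S) (x : X)
    (h : IsField (S.presheaf.stalk (f x))) :
    Nonempty (X.presheaf.stalk x ≃+* (f.fiber (f x)).presheaf.stalk (f.asFiber x)) := by
  obtain ⟨e⟩ := nonempty_asFiber_stalkEquiv f x
  have h1 : fibreIdeal f x = ⊥ := by
    rw [fibreIdeal_def, (isField_iff_maximalIdeal_eq.mp h), Ideal.map_bot]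
  exact ⟨((RingEquiv.quotientBot _).symm.trans (Ideal.quotEquivOfEq h1.symm)).trans e⟩

theorem normal_of_smooth_generic {S C : Scheme.{u}} [IsIntegral S] [IsLocallyNoetherian S]
    (hS : Pi1.IsNormalScheme S) (f : C ⟶ S) [Flat f] [LocallyOfFinitePresentation f]
    [GeometricallyReduced f]
    (hdim : ∀ s : ↥S, topologicalKrullDim ↥(f.fiber s) ≤ 1)
    (hsm : Smooth (f.fiberToSpecResidueField (genericPoint ↥S))) :
    Pi1.IsNormalScheme C := by
  refine normal_of_flat f hS ?_ ?_ ?_
  · intro x
    have : GeometricallyReduced (f.fiberToSpecResidueField (f x)) := inferInstance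
    have hred : IsReduced (f.fiber (f x)) :=
      GeometricallyReduced.isReduced_of_flat_of_isLocallyNoetherian (f.fiberToSpecResidueField (f x))
    infer_instance
  · intro x
    exact (CurvesB.DimPts.ringKrullDim_stalk_le _).trans (hdim _)
  · intro x hx
    have hfx := eq_genericPoint (f x) hx
    have hfield : IsField (S.presheaf.stalk (f x)) := by
      have hd := (hS (f x)).1
      have : Ring.KrullDimLE 0 (S.presheaf.stalk (f x)) := by
        rw [Ring.krullDimLE_iff, hx]; rfl
      exact Ring.KrullDimLE.isField_of_isDomain
    obtain ⟨e⟩ := stalk_equiv_of_isField f x hfield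
    refine nrm_of_equiv e.symm ?_
    have hsm' : Smooth (f.fiberToSpecResidueField (f x)) := by rw [hfx]; exact hsm
    have hreg : IsRegularLocalRing ((f.fiber (f x)).presheaf.stalk (f.asFiber x)) :=
      VarietyA.RegSmoothSch.isRegularLocalRing_stalk_of_mem_smoothLocus
        (k := S.residueField (f x)) (f.fiberToSpecResidueField (f x)) (f.asFiber x) (by
          rw [Scheme.Hom.smoothLocus_eq_top]; trivial)
    have h1 := CurvesC.RegNormal.isDomain ((f.fiber (f x)).presheaf.stalk (f.asFiber x))
    exact ⟨h1, CurvesC.RegNormal.isIntegrallyClosed _⟩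

end Groth.Agent.Curv2.K96.NormalGen
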