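import Groth.Agent.FormalB.HHLes
import Groth.Agent.Ega3B.SectExact
import Groth.Agent.VarietyB.HHPush
import Groth.Prelude.Def_ClSub2

/-!
# Counting on a principal closed subscheme

`T` over `Spec B`, `ϖ : B`, `0 → M → M → Q → 0` exact (multiplication by `ϖ`).  If `H^2(T, M) = 0` and
`H^1(T, M)` has finite length then the cokernel of `H^0(T, M) → H^0(T, Q)` has the length of `H^1(T, Q)`.
-/

set_option autoImplicit false
universe u v w

open CategoryTheory CategoryTheory.Limits AlgebraicGeometry Opposite TopologicalSpace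
open Groth.Agent.FormalA.HHLin Groth.Agent.FormalB.HHLes

namespace Groth.Agent.Curv2.K96.SpecCount

section Algebra

/-- Kernel and cokernel of an endomorphism of a module of finite length have the same length. -/
theorem length_ker_eq {B : Type u} [CommRing B] {F : Type v} [AddCommGroup F] [Module B F] (f : F →ₗ[B] F)
    (h : Module.length B F ≠ ⊤) :
    Module.length B (LinearMap.ker f) = Module.length B (F ⧸ LinearMap.range f) := by
  have h1 := Module.length_eq_add_of_exact (LinearMap.ker f).subtype f.rangeRestrict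
    (LinearMap.ker f).subtype_injective f.surjective_rangeRestrict (by
      intro x
      rw [LinearMap.rangeRestrict, Set.mem_range]
      constructor
      · intro hx
        exact ⟨⟨x, by simpa [Subtype.ext_iff] using hx⟩, rfl⟩
      · rintro ⟨y, rfl⟩
        exact Subtype.ext y.2)
  have h2 := Module.length_eq_add_of_exact (LinearMap.range f).subtype (LinearMap.range f).mkQ
    (LinearMap.range f).subtype_injective (LinearMap.range f).mkQ_surjective (by
      rw [LinearMap.exact_iff, Submodule.ker_mkQ, Submodule.range_subtype])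
  have h3 : Module.length B (LinearMap.range f) ≠ ⊤ := by
    refine ne_top_of_le_ne_top h ?_
    rw [h2]; exact le_self_add
  rw [h1, add_comm] at h2
  exact ENat.add_right_injective_of_ne_top h3 h2

/-- Length is invariant under bijective semilinear maps over a surjective ring hom. -/
theorem length_eq_of_semilinear {R S M N : Type*} [CommRing R] [CommRing S] [AddCommGroup M]
    [AddCommGroup N] [Module R M] [Module S N] (σ : R →+* S) (hσ : Function.Surjective σ)
    (f : M ≃+ N) (hf : ∀ (r : R) (x : M), f (r • x) = σ r • f x) : Module.length R M = Module.length S N := by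
  have : RingHomSurjective σ := ⟨hσ⟩
  let f' : M →ₛₗ[σ] N := { toFun := f, map_add' := map_add f, map_smul' := hf }
  have hb : Function.Bijective f' := f.bijective
  rw [Module.length, Module.length, WithBot.unbot_inj,
    Order.krullDim_eq_of_orderIso (Submodule.orderIsoMapComapOfBijective f' hb)]

variable {k : Type u} {R : Type v} [CommRing k] [CommRing R] [Algebra k R] (m : Ideal R)
  (hm : ∀ r : R, ∃ c : k, r - algebraMap k R c ∈ m)

include hm in
theorem length_eq_of_trivial (Q : Type w) [AddCommGroup Q] [Module R Q] [Module k Q]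
    [IsScalarTower k R Q] (h0 : ∀ r ∈ m, ∀ q : Q, r • q = 0) :
    Module.length R Q = Module.length k Q := by
  have key : ∀ (r : R) (q : Q), ∃ c : k, r • q = c • q := by
    intro r q
    obtain ⟨c, hc⟩ := hm r
    refine ⟨c, ?_⟩
    have h1 := h0 _ hc q
    rw [sub_smul, sub_eq_zero, algebraMap_smul] at h1
    exact h1
  let e : Submodule R Q ≃o Submodule k Q :=
    { toFun := fun P => P.restrictScalars k
      invFun := fun P =>
        { P with
          smul_mem' := fun r q hq => by
            obtain ⟨c, hc⟩ := key r q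
            rw [hc]
            exact P.smul_mem c hq }
      left_inv := fun P => rfl
      right_inv := fun P => rfl
      map_rel_iff' := Iff.rfl }
  apply WithBot.coe_injective
  rw [Module.coe_length, Module.coe_length, Order.krullDim_eq_of_orderIso e]

include hm in
/-- Length over `R` is length over `k` for modules killed by a power of an ideal `m` with `R = k + m`. -/
theorem length_eq (n : ℕ) : ∀ (Q : Type w) [AddCommGroup Q] [Module R Q] [Module k Q]
    [IsScalarTower k R Q] (_ : ∀ r ∈ m ^ n, ∀ q : Q, r • q = 0),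
    Module.length R Q = Module.length k Q := by
  induction n with
  | zero =>
    intro Q _ _ _ _ h
    have : Subsingleton Q := by
      refine ⟨fun x y => ?_⟩
      have h1 : ∀ z : Q, z = 0 := fun z => by
        have := h 1 (by simp) z
        rwa [one_smul] at this
      rw [h1 x, h1 y]
    rw [Module.length_eq_zero, Module.length_eq_zero]
  | succ n ih =>
    intro Q _ _ _ _ h
    let Q' : Submodule R Q := m • ⊤
    have hex : Function.Exact Q'.subtype Q'.mkQ := by
      rw [LinearMap.exact_iff, Submodule.ker_mkQ, Submodule.range_subtype]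
    have hi : Function.Injective Q'.subtype := Q'.subtype_injective
    have hp : Function.Surjective Q'.mkQ := Q'.mkQ_surjective
    have hex' : Function.Exact (Q'.subtype.restrictScalars k) (Q'.mkQ.restrictScalars k) := hex
    have hi' : Function.Injective (Q'.subtype.restrictScalars k) := hi
    have hp' : Function.Surjective (Q'.mkQ.restrictScalars k) := hp
    have h1 := Module.length_eq_add_of_exact Q'.subtype Q'.mkQ hi hp hex
    have h2 := Module.length_eq_add_of_exact (Q'.subtype.restrictScalars k)
      (Q'.mkQ.restrictScalars k) hi' hp' hex'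
    have h3 : Module.length R Q' = Module.length k Q' := by
      apply ih
      rintro r hr ⟨q, hq⟩
      apply Subtype.ext
      change r • q = 0
      induction hq using Submodule.smul_induction_on' with
      | smul a ha x _ =>
        rw [smul_smul]
        exact h _ (by rw [pow_succ]; exact Ideal.mul_mem_mul hr ha) x
      | add x _ y _ hx hy => rw [smul_add, hx, hy, add_zero]
    have h4 : Module.length R (Q ⧸ Q') = Module.length k (Q ⧸ Q') := by
      apply length_eq_of_trivial m hm
      intro r hr q
      obtain ⟨q, rfl⟩ := Submodule.Quotient.mk_surjective _ q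
      rw [← Submodule.Quotient.mk_smul, Submodule.Quotient.mk_eq_zero]
      exact Submodule.smul_mem_smul hr trivial
    rw [h1, h2, h3, h4]

/-- A finite module killed by a power of a maximal ideal has finite length. -/
theorem length_ne_top {B : Type u} [CommRing B] [IsNoetherianRing B] (m : Ideal B) [m.IsMaximal] (N : ℕ)
    (F : Type v) [AddCommGroup F] [Module B F] [Module.Finite B F] (h : ∀ b ∈ m ^ N, ∀ x : F, b • x = 0) :
    Module.length B F ≠ ⊤ := by
  induction N generalizing F with
  | zero =>
    have : Subsingleton F := by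
      refine ⟨fun x y => ?_⟩
      have h1 : ∀ z : F, z = 0 := fun z => by
        have := h 1 (by simp) z
        rwa [one_smul] at this
      rw [h1 x, h1 y]
    rw [Module.length_eq_zero]
    exact ENat.zero_ne_top
  | succ n ih =>
    let Q' : Submodule B F := m • ⊤
    have hex : Function.Exact Q'.subtype Q'.mkQ := by
      rw [LinearMap.exact_iff, Submodule.ker_mkQ, Submodule.range_subtype]
    have h1 := Module.length_eq_add_of_exact Q'.subtype Q'.mkQ Q'.subtype_injective Q'.mkQ_surjective hex
    have hN : IsNoetherian B F := isNoetherian_of_isNoetherianRing_of_finite B F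
    have h3 : Module.length B Q' ≠ ⊤ := by
      apply ih
      rintro r hr ⟨q, hq⟩
      apply Subtype.ext
      change r • q = 0
      induction hq using Submodule.smul_induction_on' with
      | smul a ha x _ =>
        rw [smul_smul]
        exact h _ (by rw [pow_succ]; exact Ideal.mul_mem_mul hr ha) x
      | add x _ y _ hx hy => rw [smul_add, hx, hy, add_zero]
    have h4 : Module.length B (F ⧸ Q') ≠ ⊤ := by
      let : Field (B ⧸ m) := Ideal.Quotient.field m
      let inst : Module (B ⧸ m) (F ⧸ Q') := inferInstanceAs (Module (B ⧸ m) (F ⧸ m • (⊤ : Submodule B F)))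
      have hst : IsScalarTower B (B ⧸ m) (F ⧸ Q') :=
        inferInstanceAs (IsScalarTower B (B ⧸ m) (F ⧸ m • (⊤ : Submodule B F)))
      have hfin : Module.Finite (B ⧸ m) (F ⧸ Q') := Module.Finite.of_restrictScalars_finite B _ _
      have h5 : Module.length B (F ⧸ Q') = Module.length (B ⧸ m) (F ⧸ Q') :=
        length_eq_of_semilinear (Ideal.Quotient.mk m) Ideal.Quotient.mk_surjective (AddEquiv.refl _)
          (fun r x => (algebraMap_smul (B ⧸ m) r x).symm)
      rw [h5]
      rw [Module.length_eq_finrank]
      exact ENat.natCast_ne_top _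
    rw [h1]
    exact WithTop.add_ne_top.2 ⟨h3, h4⟩

end Algebra

section Sheaf

variable {B : Type u} [CommRing B] {T : Scheme.{u}} [T.Over (Spec (CommRingCat.of B))]

theorem HHmap_smulMod (M : T.Modules) (b : B) (n : ℕ) (x : Coh.HH T M n) :
    HHmap B (Formal.smulMod B M b) n x = b • x := rfl

/-- The count on the principal closed subscheme. -/
theorem count {M Q : T.Modules} (ϖ : B) (g : M ⟶ Q) (w : Formal.smulMod B M ϖ ≫ g = 0)
    (hS : (ShortComplex.mk (Formal.smulMod B M ϖ) g w).ShortExact) (h2 : Subsingleton (Coh.HH T M 2))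
    (hfin : Module.length B (Coh.HH T M 1) ≠ ⊤) :
    Module.length B (Coh.HH T Q 0 ⧸ LinearMap.range (HHmap B g 0)) = Module.length B (Coh.HH T Q 1) := by
  let μ : Coh.HH T M 1 →ₗ[B] Coh.HH T M 1 := HHmap B (Formal.smulMod B M ϖ) 1
  have e0 : Function.Exact (HHmap B g 0) (δ B hS 0) := exact_map_δ B hS 0
  have e1 : Function.Exact (δ B hS 0) μ := exact_δ_map B hS 0
  have e2 : Function.Exact μ (HHmap B g 1) := exact_map_map B hS 1
  have hs : Function.Surjective (HHmap B g 1) := by
    intro y
    have e3 : Function.Exact (HHmap B g 1) (δ B hS 1) := exact_map_δ B hS 1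
    exact (e3 y).1 (Subsingleton.elim (α := Coh.HH T M 2) _ _)
  have h3 : Module.length B (Coh.HH T Q 0 ⧸ LinearMap.range (HHmap B g 0)) = Module.length B (LinearMap.ker μ) := by
    rw [← e0.linearMap_ker_eq, e1.linearMap_ker_eq]
    exact (LinearMap.quotKerEquivRange (δ B hS 0)).length_eq
  have h4 : Module.length B (Coh.HH T M 1 ⧸ LinearMap.range μ) = Module.length B (Coh.HH T Q 1) := by
    rw [← e2.linearMap_ker_eq]
    exact ((HHmap B g 1).quotKerEquivOfSurjective hs).length_eq
  rw [h3, length_ker_eq μ hfin, h4]

theorem HH_one_killed {M Q : T.Modules} (ϖ : B) (g : M ⟶ Q) (w : Formal.smulMod B M ϖ ≫ g = 0)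
    (hS : (ShortComplex.mk (Formal.smulMod B M ϖ) g w).ShortExact) (h2 : Subsingleton (Coh.HH T M 2))
    (b : B) (hb : ∀ x : Coh.HH T M 1, b • x = 0) (y : Coh.HH T Q 1) : b • y = 0 := by
  have hs : Function.Surjective (HHmap B g 1) := by
    intro y
    have e3 : Function.Exact (HHmap B g 1) (δ B hS 1) := exact_map_δ B hS 1
    exact (e3 y).1 (Subsingleton.elim (α := Coh.HH T M 2) _ _)
  obtain ⟨x, rfl⟩ := hs y
  rw [← map_smul, hb, map_zero]

variable (T) in
/-- The image of `b : B` among the global functions. -/
noncomputable def glob (b : B) : Γ(T, ⊤) := Coh.toGlobal (T ↘ Spec (CommRingCat.of B)) b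

open Groth.Agent.Ega3B.SectExact in
theorem secEquiv_smul (M : T.Modules) (b : B) (x : Coh.HH T M 0) :
    secEquiv M (b • x) = glob T b • secEquiv M x := by
  have h1 : secEquiv M (b • x) = (Formal.smulMod B M b).app ⊤ (secEquiv M x) :=
    secEquiv_hmap (Formal.smulMod B M b) x
  rw [h1]
  have h2 : Coh.resTop T (op ⊤) (Coh.toGlobal (T ↘ Spec (CommRingCat.of B)) b) = glob T b := by
    change (T.ringCatSheaf.obj.map (𝟙 _)).hom _ = _
    rw [CategoryTheory.Functor.map_id]
    rfl
  rw [← h2]
  rfl

open Groth.Agent.Ega3B.SectExact in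
/-- The cokernel on `H^0` is the cokernel on global functions. -/
theorem length_sections {U : Scheme.{u}} (i : U ⟶ T)
    (hB : Function.Surjective (Coh.toGlobal (T ↘ Spec (CommRingCat.of B)))) :
    letI : Algebra Γ(T, ⊤) Γ(U, ⊤) := i.appTop.hom.toAlgebra
    Module.length B (Coh.HH T ((Scheme.Modules.pushforward i).obj (Coh.structureModule U)) 0 ⧸
      LinearMap.range (HHmap B (ClSub.unitToPush i) 0)) =
      Module.length Γ(T, ⊤) (Γ(U, ⊤) ⧸ LinearMap.range (Algebra.linearMap Γ(T, ⊤) Γ(U, ⊤))) := by
  let : Algebra Γ(T, ⊤) Γ(U, ⊤) := i.appTop.hom.toAlgebra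
  let e1 : Coh.HH T (Coh.structureModule T) 0 ≃+ Γ(T, ⊤) := secEquiv _
  let e2 : Coh.HH T ((Scheme.Modules.pushforward i).obj (Coh.structureModule U)) 0 ≃+ Γ(U, ⊤) :=
    secEquiv ((Scheme.Modules.pushforward i).obj (Coh.structureModule U))
  have he : ∀ x, e2 (HHmap B (ClSub.unitToPush i) 0 x) = i.appTop.hom (e1 x) := fun x =>
    secEquiv_hmap (ClSub.unitToPush i) x
  have hs : ∀ (b : B) (x), e2 (b • x) = i.appTop.hom (glob T b) * e2 x :=
    fun b x => secEquiv_smul ((Scheme.Modules.pushforward i).obj (Coh.structureModule U)) b x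
  let N1 := LinearMap.range (HHmap B (ClSub.unitToPush i) 0)
  let N2 := LinearMap.range (Algebra.linearMap Γ(T, ⊤) Γ(U, ⊤))
  have hN : N1.toAddSubgroup.map e2.toAddMonoidHom = N2.toAddSubgroup := by
    ext y
    constructor
    · rintro ⟨_, ⟨x, rfl⟩, rfl⟩
      exact ⟨e1 x, (he x).symm⟩
    · rintro ⟨a, rfl⟩
      exact ⟨HHmap B (ClSub.unitToPush i) 0 (e1.symm a), ⟨_, rfl⟩, (he _).trans (by rw [e1.apply_symm_apply]; rfl)⟩
  let e : (Coh.HH T ((Scheme.Modules.pushforward i).obj (Coh.structureModule U)) 0 ⧸ N1) ≃+ (Γ(U, ⊤) ⧸ N2) :=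
    QuotientAddGroup.congr N1.toAddSubgroup N2.toAddSubgroup e2 hN
  refine length_eq_of_semilinear (Coh.toGlobal (T ↘ Spec (CommRingCat.of B)) : B →+* Γ(T, ⊤)) hB e ?_
  intro b x
  obtain ⟨x, rfl⟩ := Submodule.Quotient.mk_surjective _ x
  change Submodule.Quotient.mk (e2 (b • x)) = glob T b • (Submodule.Quotient.mk (e2 x) : Γ(U, ⊤) ⧸ N2)
  rw [hs, ← Submodule.Quotient.mk_smul]
  rfl

end Sheaf

end Groth.Agent.Curv2.K96.SpecCount
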