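import Groth.Agent.Curves.K321.DeltaAlg
import Groth.Agent.Curves.K830.MultiCross
import Groth.Agent.Curv2.K96.SpecCount

/-!
# The delta invariant and the number of branches from a finite modification

`A → N` injective and integral, `m` a maximal ideal of `A` with `m^r N ⊆ A`, `N` normal and without isolated points
over `m`: the delta invariant of `A_m` is the length of `N/A` and the number of branches of `A_m` is the number of
primes of `N` over `m`.
-/

set_option autoImplicit false
universe u

open scoped nonZeroDivisors
open IsLocalRing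

namespace Groth.Agent.Curv2.K96.AlgDelta

open Groth.Agent K421.NormCl

theorem exists_equiv_cl (O B : Type u) [CommRing O] [CommRing B] [Algebra O B] [Algebra.IsIntegral O B]
    (hB : EGA4.IsNormalRing B) (hinj : Function.Injective (algebraMap O B)) (f : O) (hfA : f ∈ O⁰)
    (hfB : algebraMap O B f ∈ B⁰) (hs : ∀ b : B, ∃ (n : ℕ) (a : O), algebraMap O B a = algebraMap O B f ^ n * b) :
    Nonempty (B ≃ₐ[O] Cl O) := by
  obtain ⟨ψ, hψ⟩ := K321.DeltaAlg.exists_embedding O B hinj f hfA hfB hs
  have hrange : ψ.range = integralClosure O (FractionRing O) := by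
    ext x
    constructor
    · rintro ⟨b, rfl⟩
      exact (Algebra.IsIntegral.isIntegral (R := O) b).map ψ
    · intro hx
      have e : B ≃+* ψ.range := (AlgEquiv.ofInjective ψ hψ).toRingEquiv
      have h1 : EGA4.IsNormalRing ψ.range := Ega4C.NormalRing2.isNormalRing_of_ringEquiv e hB
      have h2 : IsIntegrallyClosed ψ.range := Ega4C.NormalRing.isIntegrallyClosed_of_isNormalRing _ h1
      have h3 : IsFractionRing ψ.range (FractionRing O) := Ega4C.NormalRing.isFractionRing_subalgebra _
      have h4 : IsIntegral ψ.range x := IsIntegral.tower_top hx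
      obtain ⟨y, hy⟩ := (isIntegrallyClosed_iff (FractionRing O)).1 h2 h4
      rw [← hy]
      exact y.2
  exact ⟨(AlgEquiv.ofInjective ψ hψ).trans (Subalgebra.equivOfEq _ _ hrange)⟩

theorem card_maximalSpectrum_congr {R S : Type u} [CommRing R] [CommRing S] (ε : R ≃+* S) :
    ENat.card (MaximalSpectrum R) = ENat.card (MaximalSpectrum S) := by
  refine ENat.card_congr
    { toFun := fun m => ⟨m.asIdeal.comap (ε.symm : S →+* R), by
        have := m.isMaximal
        exact Ideal.comap_isMaximal_of_surjective (ε.symm : S →+* R) ε.symm.surjective⟩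
      invFun := fun m => ⟨m.asIdeal.comap (ε : R →+* S), by
        have := m.isMaximal
        exact Ideal.comap_isMaximal_of_surjective (ε : R →+* S) ε.surjective⟩
      left_inv := fun m => by
        ext x
        change ε.symm (ε x) ∈ m.asIdeal ↔ _
        rw [ε.symm_apply_apply]
      right_inv := fun m => by
        ext x
        change ε (ε.symm x) ∈ m.asIdeal ↔ _
        rw [ε.apply_symm_apply] }

/-- A smaller prime of a point where the ring is a normal domain. -/
theorem normal_of_le {N : Type u} [CommRing N] (p q : Ideal N) [p.IsPrime] [q.IsPrime] (h : p ≤ q)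
    (hq : IsDomain (Localization.AtPrime q) ∧ IsIntegrallyClosed (Localization.AtPrime q)) :
    IsDomain (Localization.AtPrime p) ∧ IsIntegrallyClosed (Localization.AtPrime p) := by
  obtain ⟨_, _⟩ := hq
  have hn := Ega4C.NormalRing2.isNormalRing_of_isDomain (Localization.AtPrime q)
  have hdis : Disjoint (q.primeCompl : Set N) (p : Set N) := by
    rw [Set.disjoint_left]
    exact fun x hx hxp => hx (h hxp)
  let P : Ideal (Localization.AtPrime q) := p.map (algebraMap N (Localization.AtPrime q))
  have hP : P.IsPrime := IsLocalization.isPrime_of_isPrime_disjoint q.primeCompl _ p inferInstance hdis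
  have hPc : P.comap (algebraMap N (Localization.AtPrime q)) = p :=
    IsLocalization.under_map_of_isPrime_disjoint q.primeCompl _ inferInstance hdis
  have h1 : IsLocalization.AtPrime (Localization.AtPrime P) (P.comap (algebraMap N (Localization.AtPrime q))) :=
    IsLocalization.isLocalization_isLocalization_atPrime_isLocalization q.primeCompl _ P
  have h2 : IsLocalization (P.comap (algebraMap N (Localization.AtPrime q))).primeCompl (Localization.AtPrime P) := h1
  have h3 : IsLocalization p.primeCompl (Localization.AtPrime P) := by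
    have e : (P.comap (algebraMap N (Localization.AtPrime q))).primeCompl = p.primeCompl := by
      ext x
      change x ∉ P.comap _ ↔ x ∉ p
      rw [hPc]
    rwa [e] at h2
  exact Ega4C.NormalRing2.isDomain_isIntegrallyClosed_of_ringEquiv
    (IsLocalization.algEquiv p.primeCompl (Localization.AtPrime P) (Localization.AtPrime p)).toRingEquiv (hn P)

section Loc

variable (A N O : Type u) [CommRing A] [CommRing N] [CommRing O] [Algebra A N] [Algebra A O]
  (m : Ideal A) [m.IsMaximal] [IsLocalization.AtPrime O m]

theorem main [Algebra.IsIntegral A N] (hinj : Function.Injective (algebraMap A N))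
    [IsLocalRing O] [IsReduced O] [IsNoetherianRing O]
    (hdim : ∀ P : Ideal O, P.IsPrime → P ≠ maximalIdeal O → P ∈ minimalPrimes O)
    (hO : maximalIdeal O ∉ minimalPrimes O)
    (r : ℕ) (hkill : ∀ f ∈ m ^ r, ∀ n : N, ∃ a : A, algebraMap A N a = algebraMap A N f * n)
    (hnorm : ∀ (q : Ideal N) [q.IsPrime], q.comap (algebraMap A N) = m →
      IsDomain (Localization.AtPrime q) ∧ IsIntegrallyClosed (Localization.AtPrime q))
    (hnmin : ∀ (q : Ideal N) [q.IsPrime], q.comap (algebraMap A N) = m → q ∉ minimalPrimes N) :
    Curv2.deltaInv O = Module.length A (N ⧸ LinearMap.range (Algebra.linearMap A N)) ∧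
    Brnch.numBranches O = {q : PrimeSpectrum N | q.asIdeal.comap (algebraMap A N) = m}.encard := by
  let B := Localization (Algebra.algebraMapSubmonoid N m.primeCompl)
  let iOB : Algebra O B := localizationAlgebra m.primeCompl N
  have hAB : ∀ a : A, algebraMap O B (algebraMap A O a) = algebraMap N B (algebraMap A N a) := fun a =>
    IsLocalization.map_eq _ a
  have t1 : IsScalarTower A O B := IsScalarTower.of_algebraMap_eq fun a => by
    rw [hAB]
    rfl
  have t2 : IsScalarTower A N B := IsScalarTower.of_algebraMap_eq fun a => rfl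
  have hint : Algebra.IsIntegral O B := ⟨isIntegral_localization (R := A) (S := N) (M := m.primeCompl)⟩
  have hlB : IsLocalization (Submonoid.map (algebraMap A N) m.primeCompl) B :=
    inferInstanceAs (IsLocalization (Algebra.algebraMapSubmonoid N m.primeCompl) B)
  have hinj' : Function.Injective (algebraMap O B) :=
    IsLocalization.map_injective_of_injective m.primeCompl O B hinj
  have hcomapO : (maximalIdeal O).under A = m := IsLocalization.AtPrime.under_maximalIdeal O m
  -- primes over the maximal ideal
  have hover : ∀ P : Ideal B, P.IsPrime → (P.comap (algebraMap O B) = maximalIdeal O ↔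
      (P.comap (algebraMap N B)).comap (algebraMap A N) = m) := by
    intro P hP
    have h1 : (P.comap (algebraMap N B)).comap (algebraMap A N) = (P.comap (algebraMap O B)).comap (algebraMap A O) := by
      ext a
      rw [Ideal.mem_comap, Ideal.mem_comap, Ideal.mem_comap, Ideal.mem_comap, hAB]
    rw [h1]
    constructor
    · intro h
      rw [h]
      exact hcomapO
    · intro h
      have h2 := IsLocalization.map_under m.primeCompl O (P.comap (algebraMap O B))
      have h3 : (P.comap (algebraMap O B)).under A = m := h
      rw [← h2, ← IsLocalization.map_under m.primeCompl O (maximalIdeal O), hcomapO, h3]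
  have hmaxover : ∀ P : Ideal B, P.IsMaximal → (P.comap (algebraMap N B)).comap (algebraMap A N) = m := by
    intro P hP
    rw [← hover P inferInstance]
    exact IsLocalRing.eq_maximalIdeal (Ideal.isMaximal_comap_of_isIntegral_of_isMaximal P)
  -- normality
  have hB : EGA4.IsNormalRing B := by
    intro p hp
    obtain ⟨P, hP, hpP⟩ := Ideal.exists_le_maximal p hp.ne_top
    have h1 := hnorm (P.comap (algebraMap N B)) (hmaxover P hP)
    have h2 := normal_of_le (p.comap (algebraMap N B)) _ (Ideal.comap_mono hpP) h1
    have h3 : IsLocalization.AtPrime (Localization.AtPrime p) (p.comap (algebraMap N B)) :=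
      IsLocalization.isLocalization_isLocalization_atPrime_isLocalization
        (Algebra.algebraMapSubmonoid N m.primeCompl) _ p
    exact Ega4C.NormalRing2.isDomain_isIntegrallyClosed_of_ringEquiv
      (IsLocalization.algEquiv (p.comap (algebraMap N B)).primeCompl _ (Localization.AtPrime p)).toRingEquiv h2
  have hBred : IsReduced B := Ega4C.NormalRing.isReduced_of_isNormalRing B hB
  -- the non-zero-divisor
  obtain ⟨f, hfm, hfmin⟩ : ∃ f ∈ maximalIdeal O, ∀ P ∈ minimalPrimes O, f ∉ P := by
    have hfin : (minimalPrimes O).Finite := minimalPrimes.finite_of_isNoetherianRing O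
    by_contra hcon
    push Not at hcon
    have h1 : (maximalIdeal O : Set O) ⊆ ⋃ P ∈ (hfin.toFinset : Set (Ideal O)), (P : Set O) := by
      intro x hx
      obtain ⟨P, hP, hxP⟩ := hcon x hx
      exact Set.mem_biUnion (by simpa using hP) hxP
    obtain ⟨P, hP, hle⟩ := (Ideal.subset_union_prime (⊥ : Ideal O) (⊥ : Ideal O) (fun P hP _ _ =>
      Ideal.IsMinimalPrime.isPrime (by simpa using hP))).1 h1
    have hP' : P ∈ minimalPrimes O := by simpa using hP
    have h2 : P = maximalIdeal O := by
      refine le_antisymm (IsLocalRing.le_maximalIdeal (Ideal.IsMinimalPrime.isPrime hP').ne_top) hle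
    exact hO (h2 ▸ hP')
  have hfA : f ∈ O⁰ := Ega4C.NormalRing.mem_nonZeroDivisors_of_forall_notMem_minimalPrimes hfmin
  have hfB : algebraMap O B f ∈ B⁰ := by
    refine Ega4C.NormalRing.mem_nonZeroDivisors_of_forall_notMem_minimalPrimes fun P hP hfP => ?_
    have hPp : P.IsPrime := Ideal.IsMinimalPrime.isPrime hP
    have h1 : P.comap (algebraMap O B) ≠ maximalIdeal O := by
      intro h
      rw [hover P hPp] at h
      refine hnmin (P.comap (algebraMap N B)) h ?_
      have h2 := IsLocalization.minimalPrimes_map (Algebra.algebraMapSubmonoid N m.primeCompl) B (⊥ : Ideal N)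
      rw [Ideal.map_bot] at h2
      have h3 : P ∈ (⊥ : Ideal B).minimalPrimes := hP
      rw [h2] at h3
      exact h3
    exact hfmin _ (hdim _ inferInstance h1) hfP
  -- denominators
  have hkill' : ∀ g ∈ maximalIdeal O ^ r, ∀ b : B, ∃ a : O, algebraMap O B a = algebraMap O B g * b := by
    intro g hg b
    rw [← IsLocalization.map_under m.primeCompl O (maximalIdeal O), hcomapO, ← Ideal.map_pow] at hg
    obtain ⟨⟨⟨g₀, hg₀⟩, s⟩, hgs⟩ := (IsLocalization.mem_map_algebraMap_iff m.primeCompl O).1 hg
    obtain ⟨⟨b₀, ⟨_, t, ht, rfl⟩⟩, hb⟩ := IsLocalization.surj (Algebra.algebraMapSubmonoid N m.primeCompl) b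
    obtain ⟨a₀, ha₀⟩ := hkill g₀ hg₀ b₀
    have hu : IsUnit (algebraMap A O t) := IsLocalization.map_units O (⟨t, ht⟩ : m.primeCompl)
    have hv : IsUnit (algebraMap A O s) := IsLocalization.map_units O s
    refine ⟨algebraMap A O a₀ * ↑(hu.unit⁻¹) * ↑(hv.unit⁻¹), ?_⟩
    have hu' : IsUnit (algebraMap O B (algebraMap A O t)) := hu.map _
    have hv' : IsUnit (algebraMap O B (algebraMap A O s)) := hv.map _
    apply hu'.mul_right_cancel
    apply hv'.mul_right_cancel
    have h1 : algebraMap O B ↑(hu.unit⁻¹) * algebraMap O B (algebraMap A O t) = 1 := by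
      rw [← map_mul, IsUnit.val_inv_mul, map_one]
    have h1' : algebraMap O B ↑(hv.unit⁻¹) * algebraMap O B (algebraMap A O s) = 1 := by
      rw [← map_mul, IsUnit.val_inv_mul, map_one]
    have h2 : b * algebraMap O B (algebraMap A O t) = algebraMap N B b₀ := by
      rw [hAB]
      exact hb
    have h3 : algebraMap O B g * algebraMap O B (algebraMap A O s) = algebraMap N B (algebraMap A N g₀) := by
      rw [← map_mul, ← hAB]
      exact congrArg _ hgs
    rw [map_mul, map_mul]
    calc _ = algebraMap O B (algebraMap A O a₀) * (algebraMap O B ↑(hu.unit⁻¹) * algebraMap O B (algebraMap A O t)) *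
          (algebraMap O B ↑(hv.unit⁻¹) * algebraMap O B (algebraMap A O s)) := by ring
      _ = algebraMap N B (algebraMap A N a₀) := by rw [h1, h1', mul_one, mul_one, hAB]
      _ = (algebraMap O B g * algebraMap O B (algebraMap A O s)) * (b * algebraMap O B (algebraMap A O t)) := by
          rw [h2, h3, ha₀, map_mul]
      _ = _ := by ring
  have hs : ∀ b : B, ∃ (n : ℕ) (a : O), algebraMap O B a = algebraMap O B f ^ n * b := by
    intro b
    obtain ⟨a, ha⟩ := hkill' (f ^ r) (Ideal.pow_mem_pow hfm r) b
    exact ⟨r, a, by rw [ha, map_pow]⟩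
  have hcomax : ∀ s ∈ m.primeCompl, ∀ n : ℕ, ∃ (t : A) (μ : A), μ ∈ m ^ n ∧ t * s + μ = 1 := by
    intro s hs n
    obtain ⟨y, i, hi, hyi⟩ := Ideal.IsMaximal.exists_inv (inferInstance : m.IsMaximal) hs
    have h1 : IsCoprime (Ideal.span {s}) m :=
      Ideal.isCoprime_iff_exists.2 ⟨y * s, Ideal.mem_span_singleton.2 ⟨y, mul_comm _ _⟩, i, hi, hyi⟩
    have h2 : IsCoprime (Ideal.span {s}) (m ^ n) := h1.pow_right
    obtain ⟨z, hz, j, hj, hzj⟩ := Ideal.isCoprime_iff_exists.1 h2
    obtain ⟨w, rfl⟩ := Ideal.mem_span_singleton.1 hz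
    exact ⟨w, j, hj, by rw [mul_comm]; exact hzj⟩
  have hmO : ∀ μ ∈ m ^ r, algebraMap A O μ ∈ maximalIdeal O ^ r := by
    intro μ hμ
    rw [← IsLocalization.map_under m.primeCompl O (maximalIdeal O), hcomapO, ← Ideal.map_pow]
    exact Ideal.mem_map_of_mem _ hμ
  constructor
  · rw [← K321.DeltaAlg.deltaInv_eq O B hB hinj' f hfA hfB hs]
    have hlen : Module.length O (B ⧸ LinearMap.range (Algebra.linearMap O B)) =
        Module.length A (B ⧸ LinearMap.range (Algebra.linearMap O B)) := by
      refine SpecCount.length_eq (maximalIdeal O) ?_ r _ ?_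
      · intro x
        obtain ⟨⟨a, s⟩, has⟩ := IsLocalization.surj m.primeCompl x
        obtain ⟨t, μ, hμ, ht⟩ := hcomax s.1 s.2 1
        rw [pow_one] at hμ
        refine ⟨a * t, ?_⟩
        have h1 : x - algebraMap A O (a * t) = x * algebraMap A O μ := by
          have h2 := congrArg (algebraMap A O) ht
          rw [map_add, map_mul, map_one] at h2
          rw [map_mul, ← has]
          linear_combination (-x : O) * h2
        rw [h1]
        refine Ideal.mul_mem_left _ _ ?_
        have h2 : μ ∈ (maximalIdeal O).under A := by rw [hcomapO]; exact hμ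
        exact h2
      · intro g hg q
        obtain ⟨b, rfl⟩ := Submodule.Quotient.mk_surjective _ q
        rw [← Submodule.Quotient.mk_smul, Submodule.Quotient.mk_eq_zero]
        obtain ⟨a, ha⟩ := hkill' g hg b
        exact ⟨a, by rw [Algebra.linearMap_apply, ha, Algebra.smul_def]⟩
    rw [hlen]
    -- the comparison map
    let φ : N →ₗ[A] (B ⧸ LinearMap.range (Algebra.linearMap O B)) :=
      ((LinearMap.range (Algebra.linearMap O B)).mkQ.restrictScalars A).comp
        (IsScalarTower.toAlgHom A N B).toLinearMap
    have hφ : ∀ n : N, φ n = Submodule.Quotient.mk (algebraMap N B n) := fun n => rfl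
    have hsurj : Function.Surjective φ := by
      intro q
      obtain ⟨b, rfl⟩ := Submodule.Quotient.mk_surjective _ q
      obtain ⟨⟨b₀, ⟨_, s, hs, rfl⟩⟩, hb⟩ := IsLocalization.surj (Algebra.algebraMapSubmonoid N m.primeCompl) b
      obtain ⟨t, μ, hμ, ht⟩ := hcomax s hs r
      obtain ⟨a, ha⟩ := hkill' (algebraMap A O μ) (hmO μ hμ) b
      refine ⟨b₀ * algebraMap A N t, ?_⟩
      rw [hφ, ← sub_eq_zero, ← Submodule.Quotient.mk_sub, Submodule.Quotient.mk_eq_zero]
      refine ⟨-a, ?_⟩
      rw [Algebra.linearMap_apply, map_neg, ha, hAB, map_mul]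
      have h2 := congrArg (fun z => algebraMap N B (algebraMap A N z)) ht
      simp only [map_add, map_mul, map_one] at h2
      have h3 : b * algebraMap N B (algebraMap A N s) = algebraMap N B b₀ := hb
      rw [← h3]
      linear_combination (-b) * h2
    have hker : LinearMap.ker φ = LinearMap.range (Algebra.linearMap A N) := by
      ext n
      rw [LinearMap.mem_ker, hφ, Submodule.Quotient.mk_eq_zero]
      constructor
      · rintro ⟨x, hx⟩
        rw [Algebra.linearMap_apply] at hx
        obtain ⟨⟨a, s⟩, has⟩ := IsLocalization.surj m.primeCompl x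
        have h1 : algebraMap N B (n * algebraMap A N s) = algebraMap N B (algebraMap A N a) := by
          rw [map_mul, ← hx, ← hAB, ← hAB, ← map_mul]
          exact congrArg _ has
        obtain ⟨⟨_, u, hu, rfl⟩, hc⟩ := (IsLocalization.eq_iff_exists (Algebra.algebraMapSubmonoid N m.primeCompl) B).1 h1
        have hus : u * s.1 ∈ m.primeCompl := m.primeCompl.mul_mem hu s.2
        obtain ⟨t, μ, hμ, ht⟩ := hcomax _ hus r
        obtain ⟨a', ha'⟩ := hkill μ hμ n
        refine ⟨t * (u * a) + a', ?_⟩
        have h2 := congrArg (algebraMap A N) ht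
        simp only [map_add, map_mul, map_one] at h2
        rw [Algebra.linearMap_apply, map_add, ha', map_mul, map_mul]
        change algebraMap A N u * (n * algebraMap A N s) = algebraMap A N u * algebraMap A N a at hc
        linear_combination n * h2 - (algebraMap A N t) * hc
      · rintro ⟨a, rfl⟩
        exact ⟨algebraMap A O a, by rw [Algebra.linearMap_apply, Algebra.linearMap_apply, hAB]⟩
    rw [← hker]
    exact (φ.quotKerEquivOfSurjective hsurj).length_eq.symm
  · rw [K830.MultiCross.numBranches_eq_cl]
    obtain ⟨e⟩ := exists_equiv_cl O B hB hinj' f hfA hfB hs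
    rw [← card_maximalSpectrum_congr e.toRingEquiv]
    let F : MaximalSpectrum B → ({q : PrimeSpectrum N | q.asIdeal.comap (algebraMap A N) = m} : Set (PrimeSpectrum N)) :=
      fun P => ⟨⟨P.asIdeal.comap (algebraMap N B), by have := P.isMaximal; infer_instance⟩, hmaxover _ P.isMaximal⟩
    refine ENat.card_congr (Equiv.ofBijective F ⟨?_, ?_⟩)
    · intro P Q hPQ
      have h1 : P.asIdeal.comap (algebraMap N B) = Q.asIdeal.comap (algebraMap N B) :=
        congrArg (fun z => z.1.asIdeal) hPQ
      apply MaximalSpectrum.ext
      have h2 := IsLocalization.map_under (Algebra.algebraMapSubmonoid N m.primeCompl) B P.asIdeal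
      have h3 := IsLocalization.map_under (Algebra.algebraMapSubmonoid N m.primeCompl) B Q.asIdeal
      rw [← h2, ← h3]
      exact congrArg (Ideal.map (algebraMap N B)) h1
    · rintro ⟨q, hq⟩
      have hq' : q.asIdeal.comap (algebraMap A N) = m := hq
      have hdis : Disjoint (Algebra.algebraMapSubmonoid N m.primeCompl : Set N) (q.asIdeal : Set N) := by
        rw [Set.disjoint_left]
        rintro _ ⟨s, hs, rfl⟩ hsq
        apply hs
        rw [← hq']
        exact hsq
      let P : Ideal B := q.asIdeal.map (algebraMap N B)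
      have hP : P.IsPrime :=
        IsLocalization.isPrime_of_isPrime_disjoint (Algebra.algebraMapSubmonoid N m.primeCompl) _ q.asIdeal q.2 hdis
      have hPc : P.comap (algebraMap N B) = q.asIdeal :=
        IsLocalization.under_map_of_isPrime_disjoint (Algebra.algebraMapSubmonoid N m.primeCompl) _ q.2 hdis
      have hPm : P.IsMaximal := by
        have h1 : P.comap (algebraMap O B) = maximalIdeal O := by
          rw [hover P hP, hPc, hq']
        have h2 : (P.comap (algebraMap O B)).IsMaximal := by rw [h1]; infer_instance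
        exact Ideal.isMaximal_of_isIntegral_of_isMaximal_comap P h2
      refine ⟨⟨P, hPm⟩, ?_⟩
      apply Subtype.ext
      apply PrimeSpectrum.ext
      exact hPc

end Loc

end Groth.Agent.Curv2.K96.AlgDelta
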