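import Groth.Agent.Curv2.K96.ContrFam

/-!
# The base change of a birational morphism of families of curves to a discrete valuation ring
-/

set_option autoImplicit false
universe u

open CategoryTheory CategoryTheory.Limits AlgebraicGeometry Opposite TopologicalSpace

namespace Groth.Agent.Curv2.K96.ContrBase

open Groth.Agent ContrFam

/-- The spectrum of a normal domain is a normal scheme. -/
theorem isNormalScheme_spec (A : Type u) [CommRing A] [IsDomain A] [IsIntegrallyClosed A] :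
    Pi1.IsNormalScheme (Spec (CommRingCat.of A)) := by
  intro x
  have hx : x.asIdeal.IsPrime := x.isPrime
  let _ : Algebra A ((Spec (CommRingCat.of A)).presheaf.stalk x) := StructureSheaf.stalkAlgebra A x
  have h1 : IsLocalization.AtPrime ((Spec (CommRingCat.of A)).presheaf.stalk x) x.asIdeal :=
    StructureSheaf.IsLocalization.to_stalk A x
  have h2 : IsDomain ((Spec (CommRingCat.of A)).presheaf.stalk x) :=
    IsLocalization.isDomain_of_atPrime _ x.asIdeal
  exact ⟨h2, isIntegrallyClosed_of_isLocalization _ x.asIdeal.primeCompl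
    x.asIdeal.primeCompl_le_nonZeroDivisors⟩

/-- The square of total spaces is cartesian. -/
theorem isPullback_total {S S' X Y X' Y' : Scheme.{u}} {π₁ : X ⟶ S} {π₂ : Y ⟶ S} {φ : X ⟶ Y} (hφ : φ ≫ π₂ = π₁)
    {g : S' ⟶ S} {a : X' ⟶ X} {f₁ : X' ⟶ S'} (h₁ : IsPullback a f₁ π₁ g) {b : Y' ⟶ Y} {f₂ : Y' ⟶ S'}
    (h₂ : IsPullback b f₂ π₂ g) {φ' : X' ⟶ Y'} (e₁ : φ' ≫ b = a ≫ φ) (e₂ : φ' ≫ f₂ = f₁) :
    IsPullback a φ' φ b := by
  subst hφ e₂
  exact IsPullback.of_bot h₁ e₁.symm h₂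

theorem smooth_generic {S X X' T : Scheme.{u}} (π : X ⟶ S) (V : S.Opens) (hV : Smooth (π ∣_ V)) (g : T ⟶ S) (η : T)
    (hg : g η ∈ V) (a : X' ⟶ X) (f : X' ⟶ T) (h : IsPullback a f π g) : Smooth (f.fiberToSpecResidueField η) := by
  have h1 : IsPullback (f.fiberι η) (f.fiberToSpecResidueField η) f (T.fromSpecResidueField η) :=
    IsPullback.of_hasPullback _ _
  refine prop_of_range @Smooth π V hV (T.fromSpecResidueField η ≫ g) (fun t => ?_) (h1.paste_horiz h)
  rw [Scheme.Hom.comp_apply, Scheme.fromSpecResidueField_apply]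
  exact hg

/-- The open point of the spectrum of a discrete valuation ring. -/
theorem exists_open_point (R : Type u) [CommRing R] [IsDomain R] [IsDiscreteValuationRing R] :
    ∃ O : (Spec (CommRingCat.of R)).Opens, ∀ x : Spec (CommRingCat.of R),
      x ∈ O ↔ x = genericPoint (Spec (CommRingCat.of R)) := by
  obtain ⟨ϖ, hϖ⟩ := IsDiscreteValuationRing.exists_irreducible R
  refine ⟨PrimeSpectrum.basicOpen ϖ, fun x => ?_⟩
  have hgen : genericPoint (Spec (CommRingCat.of R)) = (⊥ : PrimeSpectrum R) := genericPoint_eq_bot_of_affine _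
  rw [hgen]
  constructor
  · intro hx
    have hx' : ϖ ∉ x.asIdeal := hx
    have h1 : x.asIdeal = ⊥ := by
      by_contra hne
      have hx : x.asIdeal.IsPrime := x.2
      have h2 : x.asIdeal.IsMaximal := IsPrime.to_maximal_ideal hne
      have h3 := IsLocalRing.eq_maximalIdeal h2
      apply hx'
      rw [h3, hϖ.maximalIdeal_eq]
      exact Ideal.mem_span_singleton_self ϖ
    exact PrimeSpectrum.ext h1
  · rintro rfl
    change ϖ ∉ (⊥ : Ideal R)
    rw [Ideal.mem_bot]
    exact hϖ.ne_zero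

section

variable (S X Y : Scheme.{u}) (π₁ : X ⟶ S) (π₂ : Y ⟶ S)
    [Flat π₁] [IsProper π₁] [LocallyOfFinitePresentation π₁] [GeometricallyReduced π₁] [GeometricallyConnected π₁]
    [Flat π₂] [IsProper π₂] [LocallyOfFinitePresentation π₂] [GeometricallyReduced π₂] [GeometricallyConnected π₂]
    (hdim₁ : ∀ s : ↥S, topologicalKrullDim ↥(π₁.fiber s) = 1) (hdim₂ : ∀ s : ↥S, topologicalKrullDim ↥(π₂.fiber s) = 1)
    (φ : X ⟶ Y) (hφ : φ ≫ π₂ = π₁) (V : S.Opens) (hV₁ : Smooth (π₁ ∣_ V)) (hV₂ : Smooth (π₂ ∣_ V))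
    (hV₃ : IsIso (φ ∣_ (π₂ ⁻¹ᵁ V)))
    (R : Type u) [CommRing R] [IsDomain R] [IsDiscreteValuationRing R] (g : Spec (CommRingCat.of R) ⟶ S)
    (hg : g (genericPoint (Spec (CommRingCat.of R))) ∈ V)
    {X' Y' : Scheme.{u}} (a : X' ⟶ X) (f₁ : X' ⟶ Spec (CommRingCat.of R)) (h₁ : IsPullback a f₁ π₁ g)
    (b : Y' ⟶ Y) (f₂ : Y' ⟶ Spec (CommRingCat.of R)) (h₂ : IsPullback b f₂ π₂ g)
    (φ' : X' ⟶ Y') (e₁ : φ' ≫ b = a ≫ φ) (e₂ : φ' ≫ f₂ = f₁)

include hdim₁ hdim₂ hφ hV₁ hV₂ hV₃ hg h₁ h₂ e₁ e₂ in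
theorem over_dvr : (∀ W : Y'.Opens, IsIso (φ'.app W)) ∧
    (∀ y : Y', f₂ y = genericPoint (Spec (CommRingCat.of R)) → (φ' ⁻¹' {y}).Finite) := by
  have i1 : Flat f₁ := MorphismProperty.of_isPullback h₁ inferInstance
  have i2 : IsProper f₁ := MorphismProperty.of_isPullback h₁ inferInstance
  have i3 : LocallyOfFinitePresentation f₁ := MorphismProperty.of_isPullback h₁ inferInstance
  have i4 : GeometricallyReduced f₁ := MorphismProperty.of_isPullback h₁ inferInstance
  have i5 : GeometricallyConnected f₁ := MorphismProperty.of_isPullback h₁ inferInstance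
  have j1 : Flat f₂ := MorphismProperty.of_isPullback h₂ inferInstance
  have j2 : IsProper f₂ := MorphismProperty.of_isPullback h₂ inferInstance
  have j3 : LocallyOfFinitePresentation f₂ := MorphismProperty.of_isPullback h₂ inferInstance
  have j4 : GeometricallyReduced f₂ := MorphismProperty.of_isPullback h₂ inferInstance
  have j5 : GeometricallyConnected f₂ := MorphismProperty.of_isPullback h₂ inferInstance
  obtain ⟨O, hO⟩ := exists_open_point R
  let U : Y'.Opens := f₂ ⁻¹ᵁ O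
  have hiso : IsIso (φ' ∣_ U) := by
    have h3 := (isPullback_morphismRestrict φ' U).flip.paste_horiz (isPullback_total hφ h₁ h₂ e₁ e₂)
    refine prop_of_range (MorphismProperty.isomorphisms Scheme.{u}) φ (π₂ ⁻¹ᵁ V) hV₃ (U.ι ≫ b) (fun t => ?_) h3
    change π₂ (b (U.ι t)) ∈ V
    have h4 : π₂ (b (U.ι t)) = g (f₂ (U.ι t)) := by
      rw [← Scheme.Hom.comp_apply, h₂.w, Scheme.Hom.comp_apply]
    have h5 : f₂ (U.ι t) = genericPoint (Spec (CommRingCat.of R)) := (hO _).1 t.2
    rw [h4, h5]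
    exact hg
  have hdense : Dense (U : Set Y') := by
    have h3 : Dense (O : Set (Spec (CommRingCat.of R))) := O.isOpen.dense ⟨_, (hO _).2 rfl⟩
    exact h3.preimage f₂.isOpenMap
  constructor
  · refine S18353.result (Spec (CommRingCat.of R)) X' Y' (isNormalScheme_spec R) f₁ f₂ ?_ ?_ ?_ ?_ φ' e₂ ⟨U, hdense, hiso⟩
    · intro s
      rw [Flat2G.ProperDim.topologicalKrullDim_fiber_baseChange π₁ f₁ a g h₁ s]
      exact hdim₁ _
    · intro s
      rw [Flat2G.ProperDim.topologicalKrullDim_fiber_baseChange π₂ f₂ b g h₂ s]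
      exact hdim₂ _
    · exact smooth_generic π₁ V hV₁ g _ hg a f₁ h₁
    · exact smooth_generic π₂ V hV₂ g _ hg b f₂ h₂
  · intro y hy
    have hyU : y ∈ U := (hO _).2 hy
    have hinj : Function.Injective (φ' ∣_ U) := (φ' ∣_ U).homeomorph.injective
    refine Set.Subsingleton.finite ?_
    intro x hx x' hx'
    have m1 : x ∈ φ' ⁻¹ᵁ U := by change φ' x ∈ U; rw [show φ' x = y from hx]; exact hyU
    have m2 : x' ∈ φ' ⁻¹ᵁ U := by change φ' x' ∈ U; rw [show φ' x' = y from hx']; exact hyU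
    have h1 : (⟨_, m1⟩ : φ' ⁻¹ᵁ U) = ⟨_, m2⟩ := by
      apply hinj
      apply Subtype.ext
      rw [morphismRestrict_base_coe, morphismRestrict_base_coe, show φ' x = y from hx, show φ' x' = y from hx']
    exact congrArg Subtype.val h1

end

end Groth.Agent.Curv2.K96.ContrBase
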