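import Groth.Agent.Curv2.K96.ContrLoc
import Groth.Agent.CurvSt.K896.Ferr

/-!
# The local count on a nodal curve near an exceptional fibre: sections
-/

set_option autoImplicit false
universe u

open CategoryTheory CategoryTheory.Limits AlgebraicGeometry Opposite TopologicalSpace

namespace Groth.Agent.Curv2.K96.ContrCount

open Groth.Agent Groth.Agent.Models.H74.EvIdeal ContrLoc K838.Ferr Scheme.IdealSheafData

section Defs

variable {X : Scheme.{u}} (Z : Closeds X)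

/-- The ideal of `Z`. -/
noncomputable abbrev II : X.IdealSheafData := vanishingIdeal Z

/-- The ideal of the closure of the complement of `Z`. -/
noncomputable abbrev JJ : X.IdealSheafData := vanishingIdeal (cc Z)

/-- The intersection in the closure of the complement. -/
noncomputable abbrev iT : (II Z ⊔ JJ Z).subscheme ⟶ (JJ Z).subscheme :=
  Scheme.IdealSheafData.inclusion (le_sup_right : JJ Z ≤ II Z ⊔ JJ Z)

/-- The intersection in `Z`. -/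
noncomputable abbrev iZ : (II Z ⊔ JJ Z).subscheme ⟶ (II Z).subscheme :=
  Scheme.IdealSheafData.inclusion (le_sup_left : II Z ≤ II Z ⊔ JJ Z)

theorem isFerr [IsReduced X] : IsFerr (iT Z) (iZ Z) (JJ Z).subschemeι (II Z).subschemeι :=
  K896.Ferr.isFerr_sup (inf_eq_bot Z)

theorem iT_comp : iT Z ≫ (JJ Z).subschemeι = (II Z ⊔ JJ Z).subschemeι :=
  Scheme.IdealSheafData.inclusion_subschemeι _

theorem mem_Z (z : (II Z).subscheme) : (II Z).subschemeι z ∈ (Z : Set X) := by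
  have h1 : (II Z).subschemeι z ∈ Set.range (II Z).subschemeι := ⟨z, rfl⟩
  rw [range_subschemeι, coe_support_vanishingIdeal] at h1
  exact h1

theorem mem_T (t : (II Z ⊔ JJ Z).subscheme) :
    (JJ Z).subschemeι (iT Z t) ∈ (Z : Set X) ∩ closure (Z : Set X)ᶜ := by
  have h1 : (II Z ⊔ JJ Z).subschemeι t ∈ Set.range (II Z ⊔ JJ Z).subschemeι := ⟨t, rfl⟩
  rw [range_subschemeι, support_sup'] at h1
  rw [← Scheme.Hom.comp_apply, iT_comp]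
  exact h1

end Defs

variable {k : Type u} [Field k] [IsAlgClosed k] {X Y : Scheme.{u}} [X.Over (Spec (CommRingCat.of k))]
  [IsProper (X ↘ Spec (CommRingCat.of k))] (qY : Y ⟶ Spec (CommRingCat.of k)) [LocallyOfFiniteType qY]
  (ψ : X ⟶ Y) (hψ : ψ ≫ qY = X ↘ Spec (CommRingCat.of k)) (Z : Closeds X) (p : Y)
  (hZ : ∀ z ∈ (Z : Set X), ψ z = p) (V : Y.Opens) (hpV : p ∈ V)

include hZ hpV in
omit [IsAlgClosed k] [X.Over (Spec (CommRingCat.of k))] [IsProper (X ↘ Spec (CommRingCat.of k))] in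
theorem preimage_Z : (II Z).subschemeι ⁻¹ᵁ (ψ ⁻¹ᵁ V) = ⊤ := by
  ext z
  refine ⟨fun _ => trivial, fun _ => ?_⟩
  change ψ ((II Z).subschemeι z) ∈ V
  rw [hZ _ (mem_Z Z z)]
  exact hpV

include hZ hpV in
omit [IsAlgClosed k] [X.Over (Spec (CommRingCat.of k))] [IsProper (X ↘ Spec (CommRingCat.of k))] in
theorem preimage_T : iT Z ⁻¹ᵁ ((JJ Z).subschemeι ⁻¹ᵁ (ψ ⁻¹ᵁ V)) = ⊤ := by
  ext z
  refine ⟨fun _ => trivial, fun _ => ?_⟩
  change ψ ((JJ Z).subschemeι (iT Z z)) ∈ V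
  rw [hZ _ (mem_T Z z).1]
  exact hpV

include hZ hpV in
/-- Functions on `Z` are constant. -/
theorem const_Z (hconn : _root_.IsConnected (Z : Set X)) (t : Γ((II Z).subscheme, (II Z).subschemeι ⁻¹ᵁ (ψ ⁻¹ᵁ V))) :
    ∃ c : k, str ((II Z).subschemeι ≫ (X ↘ Spec (CommRingCat.of k))) _ c = t := by
  have hW := preimage_Z ψ Z p hZ V hpV
  have hr : IsReduced (II Z).subscheme := Ega1.ReducedSub.isReduced_subscheme_vanishingIdeal Z
  have hc : ConnectedSpace (II Z).subscheme := by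
    have h1 : _root_.IsConnected ((II Z).subschemeι '' Set.univ) := by
      rw [Set.image_univ, range_subschemeι, coe_support_vanishingIdeal]
      exact hconn
    rw [connectedSpace_iff_univ]
    exact ⟨Set.image_nonempty.1 h1.1, (II Z).subschemeι.isEmbedding.isInducing.isPreconnected_image.1 h1.2⟩
  refine (Models.H74.H0Card.bijective_str_of_clopen _ _ ?_ ?_).2 t
  · rw [hW]
    exact isClosed_univ
  · rw [hW]
    exact isConnected_univ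

include hZ in
/-- Functions vanishing at `p` vanish on the intersection. -/
theorem zero_T [IsReduced (II Z ⊔ JJ Z).subscheme] (a : Γ(Y, V)) (ha : a ∈ evId V p hpV) :
    (iT Z).app ((JJ Z).subschemeι ⁻¹ᵁ (ψ ⁻¹ᵁ V)) ((JJ Z).subschemeι.app (ψ ⁻¹ᵁ V) (ψ.app V a)) = 0 := by
  apply eq_zero_of_basicOpen_eq_bot
  rw [← Scheme.preimage_basicOpen, ← Scheme.preimage_basicOpen, ← Scheme.preimage_basicOpen]
  ext t
  refine ⟨fun ht => ?_, fun h => h.elim⟩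
  have h1 : ψ ((JJ Z).subschemeι (iT Z t)) ∈ Y.basicOpen a := ht
  rw [hZ _ (mem_T Z t).1] at h1
  exact absurd h1 ((mem_evId_iff V p hpV a).1 ha)

include hψ hZ hpV in
/-- The count of sections near an exceptional fibre. -/
theorem loc_count (hX : Curv2.AtWorstNodal k X) [IsReduced X] [NoetherianSpace X] (hp : IsClosed ({p} : Set Y))
    (hgen : Gen (Z : Set X)) (hconn : _root_.IsConnected (Z : Set X))
    (hne : ((Z : Set X) ∩ closure (Z : Set X)ᶜ).Nonempty)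
    (haff : IsAffineOpen ((JJ Z).subschemeι ⁻¹ᵁ (ψ ⁻¹ᵁ V))) :
    letI : Algebra Γ(Y, V) Γ(X, ψ ⁻¹ᵁ V) := (ψ.app V).hom.toAlgebra
    letI : Algebra Γ(Y, V) Γ((JJ Z).subscheme, ((JJ Z).subschemeι ≫ ψ) ⁻¹ᵁ V) :=
      (((JJ Z).subschemeι ≫ ψ).app V).hom.toAlgebra
    Function.Injective ((JJ Z).subschemeι.app (ψ ⁻¹ᵁ V)) ∧
    Module.length Γ(Y, V) (Γ((JJ Z).subscheme, ((JJ Z).subschemeι ≫ ψ) ⁻¹ᵁ V) ⧸ LinearMap.range
      (Algebra.linearMap Γ(Y, V) Γ((JJ Z).subscheme, ((JJ Z).subschemeι ≫ ψ) ⁻¹ᵁ V))) + 1 =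
    ((Z : Set X) ∩ closure (Z : Set X)ᶜ).encard +
      Module.length Γ(Y, V) (Γ(X, ψ ⁻¹ᵁ V) ⧸ LinearMap.range (Algebra.linearMap Γ(Y, V) Γ(X, ψ ⁻¹ᵁ V))) := by
  let a1 : Algebra Γ(Y, V) Γ(X, ψ ⁻¹ᵁ V) := (ψ.app V).hom.toAlgebra
  let a2 : Algebra Γ(Y, V) Γ((JJ Z).subscheme, ((JJ Z).subschemeι ≫ ψ) ⁻¹ᵁ V) :=
      (((JJ Z).subschemeι ≫ ψ).app V).hom.toAlgebra
  have hT : IsReduced (II Z ⊔ JJ Z).subscheme := isReduced_sup k hX Z hgen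
  obtain ⟨hfin, hdisc⟩ := finite_discrete Z hgen
  have hTne : Nonempty (II Z ⊔ JJ Z).subscheme := by
    obtain ⟨t, ht⟩ := hne
    rw [← support_sup', ← range_subschemeι] at ht
    obtain ⟨z, -⟩ := ht
    exact ⟨z⟩
  have hm := isMaximal_evId qY V p hpV hp
  let W := (JJ Z).subschemeι ⁻¹ᵁ (ψ ⁻¹ᵁ V)
  let β : Γ(X, ψ ⁻¹ᵁ V) →ₐ[Γ(Y, V)] Γ((JJ Z).subscheme, ((JJ Z).subschemeι ≫ ψ) ⁻¹ᵁ V) :=
    { ((JJ Z).subschemeι.app (ψ ⁻¹ᵁ V)).hom with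
      commutes' := fun a => by
        change (JJ Z).subschemeι.app (ψ ⁻¹ᵁ V) (ψ.app V a) = ((JJ Z).subschemeι ≫ ψ).app V a
        rw [Scheme.Hom.comp_app]
        rfl }
  let a3 : Algebra Γ(Y, V) Γ((II Z ⊔ JJ Z).subscheme, iT Z ⁻¹ᵁ W) :=
    (((iT Z).app W).hom.comp (algebraMap Γ(Y, V) Γ((JJ Z).subscheme, ((JJ Z).subschemeι ≫ ψ) ⁻¹ᵁ V))).toAlgebra
  let π : Γ((JJ Z).subscheme, ((JJ Z).subschemeι ≫ ψ) ⁻¹ᵁ V) →ₐ[Γ(Y, V)] Γ((II Z ⊔ JJ Z).subscheme, iT Z ⁻¹ᵁ W) :=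
    { ((iT Z).app W).hom with
      commutes' := fun a => rfl }
  have ha3 : ∀ a : Γ(Y, V), algebraMap Γ(Y, V) Γ((II Z ⊔ JJ Z).subscheme, iT Z ⁻¹ᵁ W) a =
      (iT Z).app W ((JJ Z).subschemeι.app (ψ ⁻¹ᵁ V) (ψ.app V a)) := fun a =>
    congrArg ((iT Z).app W) (β.commutes a).symm
  have hF := isFerr Z
  have hsec := (secSq_iff hF.w (ψ ⁻¹ᵁ V)).1 (hF.sec (ψ ⁻¹ᵁ V))
  have hpT := preimage_T ψ Z p hZ V hpV
  have hntr : Nontrivial Γ((II Z ⊔ JJ Z).subscheme, iT Z ⁻¹ᵁ W) := by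
    have : Nonempty (iT Z ⁻¹ᵁ W : (II Z ⊔ JJ Z).subscheme.Opens) := by
      obtain ⟨t⟩ := hTne
      exact ⟨⟨t, by change t ∈ iT Z ⁻¹ᵁ ((JJ Z).subschemeι ⁻¹ᵁ (ψ ⁻¹ᵁ V)); rw [hpT]; trivial⟩⟩
    infer_instance
  have hm0 : ∀ a ∈ evId V p hpV, algebraMap Γ(Y, V) Γ((II Z ⊔ JJ Z).subscheme, iT Z ⁻¹ᵁ W) a = 0 := by
    intro a ha
    rw [ha3]
    exact zero_T ψ Z p hZ V hpV a ha
  -- constants
  have hcst : ∀ (c : k), (iT Z).app W ((JJ Z).subschemeι.app (ψ ⁻¹ᵁ V) (ψ.app V (str qY V c))) =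
      str ((II Z ⊔ JJ Z).subschemeι ≫ (X ↘ Spec (CommRingCat.of k))) (iT Z ⁻¹ᵁ W) c := by
    intro c
    rw [app_str, app_str, app_str, hψ, ← Category.assoc, iT_comp]
  have hcst' : ∀ (c : k), (iZ Z).appLE ((II Z).subschemeι ⁻¹ᵁ (ψ ⁻¹ᵁ V)) (iT Z ⁻¹ᵁ W) (preimage_eq hF.w (ψ ⁻¹ᵁ V)).le
      (str ((II Z).subschemeι ≫ (X ↘ Spec (CommRingCat.of k))) _ c) =
      str ((II Z ⊔ JJ Z).subschemeι ≫ (X ↘ Spec (CommRingCat.of k))) (iT Z ⁻¹ᵁ W) c := by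
    intro c
    rw [Scheme.Hom.appLE, CommRingCat.comp_apply, app_str, str_res, ← Category.assoc,
      Scheme.IdealSheafData.inclusion_subschemeι]
  have hw : ∀ r : Γ(X, ψ ⁻¹ᵁ V), (iT Z).app W ((JJ Z).subschemeι.app (ψ ⁻¹ᵁ V) r) =
      (iZ Z).appLE ((II Z).subschemeι ⁻¹ᵁ (ψ ⁻¹ᵁ V)) (iT Z ⁻¹ᵁ W) (preimage_eq hF.w (ψ ⁻¹ᵁ V)).le
        ((II Z).subschemeι.app (ψ ⁻¹ᵁ V) r) := fun r =>
    congr($(sec_w hF.w (ψ ⁻¹ᵁ V) (preimage_eq hF.w (ψ ⁻¹ᵁ V)).le) r)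
  have hconst := const_Z (k := k) ψ Z p hZ V hpV hconn
  have hinj : Function.Injective ((JJ Z).subschemeι.app (ψ ⁻¹ᵁ V)) := by
    rw [injective_iff_map_eq_zero]
    intro r hr
    obtain ⟨c, hc⟩ := hconst ((II Z).subschemeι.app (ψ ⁻¹ᵁ V) r)
    have h1 := hw r
    rw [hr, map_zero, ← hc, hcst'] at h1
    have h2 : c = 0 := (str ((II Z ⊔ JJ Z).subschemeι ≫ (X ↘ Spec (CommRingCat.of k))) (iT Z ⁻¹ᵁ W)).injective
      (h1.symm.trans (map_zero _).symm)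
    rw [h2, map_zero] at hc
    refine hsec.2 r 0 ?_ ?_
    · rw [hr, map_zero]
    · rw [← hc, map_zero]
  have hc : ∀ n : Γ((JJ Z).subscheme, ((JJ Z).subschemeι ≫ ψ) ⁻¹ᵁ V), (∃ b, β b = n) ↔
      ∃ a : Γ(Y, V), algebraMap Γ(Y, V) Γ((II Z ⊔ JJ Z).subscheme, iT Z ⁻¹ᵁ W) a = π n := by
    intro n
    constructor
    · rintro ⟨r, rfl⟩
      obtain ⟨c, hc⟩ := hconst ((II Z).subschemeι.app (ψ ⁻¹ᵁ V) r)
      refine ⟨str qY V c, ?_⟩
      rw [ha3, hcst, ← hcst', hc]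
      exact (hw r).symm
    · rintro ⟨a, ha⟩
      rw [ha3, hw] at ha
      obtain ⟨r, hr, -⟩ := hsec.1 n ((II Z).subschemeι.app (ψ ⁻¹ᵁ V) (ψ.app V a)) ha.symm
      exact ⟨r, hr⟩
  have hπ : Function.Surjective π := (iT Z).app_surjective _ haff
  have hG : Module.length Γ(Y, V) Γ((II Z ⊔ JJ Z).subscheme, iT Z ⁻¹ᵁ W) =
      ((Z : Set X) ∩ closure (Z : Set X)ᶜ).encard := by
    let a4 : Algebra k Γ(Y, V) := (str qY V).toAlgebra
    let a5 : Module k Γ((II Z ⊔ JJ Z).subscheme, iT Z ⁻¹ᵁ W) :=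
      Module.compHom _ (str ((II Z ⊔ JJ Z).subschemeι ≫ (X ↘ Spec (CommRingCat.of k))) (iT Z ⁻¹ᵁ W))
    have a6 : IsScalarTower k Γ(Y, V) Γ((II Z ⊔ JJ Z).subscheme, iT Z ⁻¹ᵁ W) := by
      refine ⟨fun c a g => ?_⟩
      have h1 : (c • a) = str qY V c * a := rfl
      rw [h1, Algebra.smul_def, Algebra.smul_def, map_mul]
      have h2 : algebraMap Γ(Y, V) Γ((II Z ⊔ JJ Z).subscheme, iT Z ⁻¹ᵁ W) (str qY V c) =
        str ((II Z ⊔ JJ Z).subschemeι ≫ (X ↘ Spec (CommRingCat.of k))) (iT Z ⁻¹ᵁ W) c := (ha3 _).trans (hcst c)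
      rw [h2, mul_assoc]
      rfl
    rw [SpecCount.length_eq_of_trivial (evId V p hpV) (fun a => exists_sub_str_mem qY V p hpV hp a) _
      (fun a ha g => by rw [Algebra.smul_def, hm0 a ha, zero_mul])]
    rw [← natCard_eq]
    exact length_sections_discrete _ _ hpT
  refine ⟨hinj, ?_⟩
  have h1 := length_count β π hinj hπ (evId V p hpV) hm0 hc
  rw [hG] at h1
  exact h1

end Groth.Agent.Curv2.K96.ContrCount
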