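import Groth.Agent.Curv2.K96.ContrTop
import Groth.Agent.CohqA.AffineVanish
import Groth.Agent.Ega2.QCohLocal
import Groth.Prelude.Def_Curv2
import Mathlib.AlgebraicGeometry.Morphisms.QuasiFinite
import Mathlib.AlgebraicGeometry.ZariskisMainTheorem

/-!
# A proper surjection is an isomorphism over an open set where its fibres are finite, if the local count holds
-/

set_option autoImplicit false
universe u

open CategoryTheory CategoryTheory.Limits AlgebraicGeometry Opposite TopologicalSpace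

namespace Groth.Agent.Curv2.K96.ContrIso

/-- A proper morphism with finite fibres over an affine open is affine there. -/
theorem isAffineOpen_preimage {T W : Scheme.{u}} (ψ : T ⟶ W) [IsProper ψ] (D : W.Opens) (hD : IsAffineOpen D)
    (hfin : ∀ y ∈ D, (ψ ⁻¹' {y}).Finite) : IsAffineOpen (ψ ⁻¹ᵁ D) ∧ IsFinite (ψ ∣_ D) := by
  have h1 : LocallyQuasiFinite (ψ ∣_ D) := by
    apply LocallyQuasiFinite.of_finite_preimage_singleton
    intro x
    have h2 := (hfin x.1 x.2).preimage (f := (ψ ⁻¹ᵁ D).ι) (ψ ⁻¹ᵁ D).ι.isOpenEmbedding.injective.injOn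
    refine h2.subset ?_
    intro y hy
    have hy' : (ψ ∣_ D) y = x := hy
    change ψ ((ψ ⁻¹ᵁ D).ι y) = x.1
    have h3 : D.ι ((ψ ∣_ D) y) = ψ ((ψ ⁻¹ᵁ D).ι y) := by
      rw [← Scheme.Hom.comp_apply, ← Scheme.Hom.comp_apply, morphismRestrict_ι]
    rw [← h3, hy']
    rfl
  have h2 : IsProper (ψ ∣_ D) := inferInstance
  have h3 : IsFinite (ψ ∣_ D) := (IsFinite.iff_isProper_and_locallyQuasiFinite _).2 ⟨h2, h1⟩
  have : IsAffine D.toScheme := hD
  exact ⟨isAffine_of_isAffineHom (ψ ∣_ D), h3⟩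

/-- The local count at the closed points of `Y`. -/
def LocCount (k : Type u) [Field k] {X Y : Scheme.{u}} (q : X ⟶ Spec (CommRingCat.of k)) (ψ : X ⟶ Y) : Prop :=
  ∀ p : Y, IsClosed ({p} : Set Y) → ∀ V₀ : Y.Opens, p ∈ V₀ → (∀ y ∈ V₀, y ≠ p → (ψ ⁻¹' {y}).Finite) →
    ∃ V : Y.Opens, IsAffineOpen V ∧ p ∈ V ∧ V ≤ V₀ ∧
      letI : Algebra Γ(Y, V) Γ(X, ψ ⁻¹ᵁ V) := (ψ.app V).hom.toAlgebra
      letI : (ψ ⁻¹ᵁ V).toScheme.Over (Spec (CommRingCat.of k)) := ⟨(ψ ⁻¹ᵁ V).ι ≫ q⟩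
      Module.length Γ(Y, V) (Γ(X, ψ ⁻¹ᵁ V) ⧸ LinearMap.range (Algebra.linearMap Γ(Y, V) Γ(X, ψ ⁻¹ᵁ V))) =
        Module.length k (Coh.HH (ψ ⁻¹ᵁ V).toScheme (Coh.structureModule _) 1) ∧
      Module.length k (Coh.HH (ψ ⁻¹ᵁ V).toScheme (Coh.structureModule _) 1) ≠ ⊤

theorem app_injective {X Y : Scheme.{u}} [IsReduced Y] (ψ : X ⟶ Y) (hs : Function.Surjective ψ) (V : Y.Opens) :
    Function.Injective (ψ.app V) := by
  rw [injective_iff_map_eq_zero]
  intro s hs0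
  apply eq_zero_of_basicOpen_eq_bot
  have h1 : ψ ⁻¹ᵁ (Y.basicOpen s) = X.basicOpen (ψ.app V s) := Scheme.preimage_basicOpen ψ s
  rw [hs0, Scheme.basicOpen_zero] at h1
  ext y
  constructor
  · intro hy
    obtain ⟨x, rfl⟩ := hs y
    have h2 : x ∈ ψ ⁻¹ᵁ (Y.basicOpen s) := hy
    rw [h1] at h2
    exact h2.elim
  · exact fun h => h.elim

set_option backward.isDefEq.respectTransparency false in
theorem isIso_morphismRestrict_of_bijective {X Y : Scheme.{u}} (ψ : X ⟶ Y) (V : Y.Opens) (hV : IsAffineOpen V)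
    (hU : IsAffineOpen (ψ ⁻¹ᵁ V)) (h : Function.Bijective (ψ.app V)) : IsIso (ψ ∣_ V) := by
  have : IsAffine V := hV
  have h1 : IsIso (ψ.app V) := (ConcreteCategory.isIso_iff_bijective _).2 h
  have h2 : IsAffine (ψ ⁻¹ᵁ V) ∧ IsIso ((ψ ∣_ V).appTop) := by
    refine ⟨hU, ?_⟩
    rw [Scheme.Hom.app_eq_appLE] at h1
    simp only [morphismRestrict_app', TopologicalSpace.Opens.map_top]
    convert! h1 <;> simp [Scheme.Opens.toScheme_presheaf_obj]
  exact (HasAffineProperty.iff_of_isAffine (P := .isomorphisms _)).2 h2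

/-- Isomorphisms can be checked locally on an open set. -/
theorem isIso_morphismRestrict_of_cover {X Y : Scheme.{u}} (ψ : X ⟶ Y) (D : Y.Opens)
    (h : ∀ y ∈ D, ∃ V : Y.Opens, y ∈ V ∧ V ≤ D ∧ IsIso (ψ ∣_ V)) : IsIso (ψ ∣_ D) := by
  refine IsZariskiLocalAtTarget.of_forall_exists_morphismRestrict (P := .isomorphisms _) fun x => ?_
  obtain ⟨V, hxV, hVD, hV⟩ := h x.1 x.2
  refine ⟨D.ι ⁻¹ᵁ V, hxV, ?_⟩
  have e1 := morphismRestrictRestrict ψ D (D.ι ⁻¹ᵁ V)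
  have e2 : D.ι ''ᵁ (D.ι ⁻¹ᵁ V) = V := by
    rw [Scheme.Hom.image_preimage_eq_opensRange_inf, Scheme.Opens.opensRange_ι]
    exact inf_eq_right.2 hVD
  have e3 := morphismRestrictEq ψ e2
  rw [(MorphismProperty.isomorphisms Scheme.{u}).arrow_mk_iso_iff e1,
    (MorphismProperty.isomorphisms Scheme.{u}).arrow_mk_iso_iff e3]
  exact hV

theorem isIso_restrict {k : Type u} [Field k] {X Y : Scheme.{u}} (q : X ⟶ Spec (CommRingCat.of k))
    (qY : Y ⟶ Spec (CommRingCat.of k)) [LocallyOfFiniteType qY] [IsReduced Y] (ψ : X ⟶ Y) [IsProper ψ]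
    (hsurj : Function.Surjective ψ) (H : LocCount k q ψ) (D : Y.Opens) (hfin : ∀ y ∈ D, (ψ ⁻¹' {y}).Finite) :
    IsIso (ψ ∣_ D) := by
  refine isIso_morphismRestrict_of_cover ψ D fun y hy => ?_
  have hJ : JacobsonSpace Y := LocallyOfFiniteType.jacobsonSpace qY
  obtain ⟨p, ⟨hp1, hp2⟩, hp⟩ := nonempty_inter_closedPoints (Z := (D : Set Y) ∩ closure {y})
    ⟨y, hy, subset_closure rfl⟩ (D.isOpen.isLocallyClosed.inter isClosed_closure.isLocallyClosed)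
  obtain ⟨V, hV, hpV, hVD, hlen, -⟩ := H p hp D hp1 (fun y hy _ => hfin y hy)
  have hyV : y ∈ V := (specializes_iff_mem_closure.2 hp2).mem_open V.isOpen hpV
  refine ⟨V, hyV, hVD, ?_⟩
  obtain ⟨hU, -⟩ := isAffineOpen_preimage ψ V hV (fun y hy => hfin y (hVD hy))
  refine isIso_morphismRestrict_of_bijective ψ V hV hU ⟨app_injective ψ hsurj V, ?_⟩
  let _ : Algebra Γ(Y, V) Γ(X, ψ ⁻¹ᵁ V) := (ψ.app V).hom.toAlgebra
  let _ : (ψ ⁻¹ᵁ V).toScheme.Over (Spec (CommRingCat.of k)) := ⟨(ψ ⁻¹ᵁ V).ι ≫ q⟩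
  have : IsAffine (ψ ⁻¹ᵁ V).toScheme := hU
  have hqc : Coh.IsQCoh (Coh.structureModule (ψ ⁻¹ᵁ V).toScheme) := Ega2.QCohLocal.isQCoh_structureModule _
  have h1 : Subsingleton (Coh.HH (ψ ⁻¹ᵁ V).toScheme (Coh.structureModule _) 1) :=
    Groth.Agent.CohqA.AffineVanish.HH_subsingleton _ _ 1 one_pos
  rw [Module.length_eq_zero (R := k) (M := Coh.HH (ψ ⁻¹ᵁ V).toScheme (Coh.structureModule _) 1),
    Module.length_eq_zero_iff] at hlen
  rw [Submodule.Quotient.subsingleton_iff] at hlen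
  exact LinearMap.range_eq_top.1 hlen

end Groth.Agent.Curv2.K96.ContrIso
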