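import Groth.Agent.Curv2.K96.SpecCount
import Groth.Agent.Curv2.K96.ContrIso
import Groth.Agent.TFOne.K22.Unit
import Groth.Agent.FormalB.MonoMu
import Groth.Agent.PerfB.StructFlat
import Groth.Agent.Resolve.K376.RatDivC
import Groth.Agent.Flat2G.FibDimVanish
import Groth.Agent.S0002
import Groth.Agent.Fga.UnitRestrict
import Groth.Agent.Fdesc.StructMod

/-!
# The count over a discrete valuation ring

`T` flat over a discrete valuation ring `R` with special fibre `U`, proper over `Spec B` with fibres of dimension at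
most one, and finite over `Spec B` off a maximal ideal `m` with `B = R + m`: the cokernel of `Γ(T, O) → Γ(U, O)` and
`H^1(U, O_U)` have the same finite length.
-/

set_option autoImplicit false
universe u

open CategoryTheory CategoryTheory.Limits AlgebraicGeometry Opposite TopologicalSpace
open Groth.Agent.FormalA.HHLin Groth.Agent.FormalB.HHLes

namespace Groth.Agent.Curv2.K96.ContrDvr

open SpecCount

theorem unit_comp {X S : Scheme.{u}} (f : X ⟶ S) :
    (Scheme.Modules.pullbackPushforwardAdjunction f).unit.app (Coh.structureModule S) ≫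
      (Scheme.Modules.pushforward f).map (Groth.Agent.Fga.UnitRestrict.pullbackUnitIso f).hom =
      ClSub.unitToPush f :=
  (Groth.Agent.Fga.UnitRestrict.unit_pullbackUnitHom f).trans rfl

theorem toGlobal_comp_map {A B : Type u} [CommRing A] [CommRing B] (φ : A →+* B) {Z : Scheme.{u}}
    (j : Z ⟶ Spec (CommRingCat.of B)) (a : A) :
    Coh.toGlobal (j ≫ Spec.map (CommRingCat.ofHom φ)) a = Coh.toGlobal j (φ a) := by
  change (j ≫ Spec.map (CommRingCat.ofHom φ)).appTop ((Scheme.ΓSpecIso (CommRingCat.of A)).inv a) =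
    j.appTop ((Scheme.ΓSpecIso (CommRingCat.of B)).inv (φ a))
  rw [Scheme.Hom.comp_appTop]
  have h1 := congr($(Scheme.ΓSpecIso_inv_naturality (CommRingCat.ofHom φ)) a)
  change (Scheme.ΓSpecIso (CommRingCat.of B)).inv (φ a) = (Spec.map (CommRingCat.ofHom φ)).appTop
    ((Scheme.ΓSpecIso (CommRingCat.of A)).inv a) at h1
  rw [h1]
  rfl

section Seq

variable {R : Type u} [CommRing R] [IsDomain R] [IsDiscreteValuationRing R] {k : Type u} [Field k]
  (ρ : R →+* k) (hρ : Function.Surjective ρ) {T U : Scheme.{u}} (f : T ⟶ Spec (CommRingCat.of R)) [Flat f]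
  (i : U ⟶ T) (q : U ⟶ Spec (CommRingCat.of k))
  (h : IsPullback i q f (Spec.map (CommRingCat.ofHom ρ))) (ϖ : R) (hϖ : Irreducible ϖ)
  {B : Type u} [CommRing B] [T.Over (Spec (CommRingCat.of B))] (b : B)
  (hb : Coh.toGlobal (T ↘ Spec (CommRingCat.of B)) b = Coh.toGlobal f ϖ)

include hρ h hϖ hb in
/-- `0 → O_T → O_T → i_* O_U → 0`, multiplication by the uniformizer. -/
theorem exists_shortExact :
    ∃ w : Formal.smulMod B (Coh.structureModule T) b ≫ ClSub.unitToPush i = 0,
      (ShortComplex.mk _ _ w).ShortExact := by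
  let : T.Over (Spec (CommRingCat.of R)) := ⟨f⟩
  have hq : Coh.IsQCoh (Coh.structureModule T) := (Groth.Agent.Fdesc.StructMod.isQCoh_structureModule T)
  have hm := K22.Unit.isModPow_unit ρ hρ (X := T) h (Coh.structureModule T) hq
  have hker : RingHom.ker ρ = Ideal.span {ϖ} ^ 1 := by
    rw [pow_one, ← hϖ.maximalIdeal_eq]
    exact IsLocalRing.eq_maximalIdeal (RingHom.ker_isMaximal_of_surjective ρ hρ)
  rw [hker] at hm
  obtain ⟨w, hw⟩ := Groth.Agent.FormalB.MonoMu.exact_of_isModPow hm
  have hepi := hm.epi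
  have hmono : Mono (Formal.smulMod R (Coh.structureModule T) ϖ) :=
    (K22.Unit.isFlatOver_iff_mono hϖ hq).1 (Groth.Agent.PerfB.StructFlat.isFlatOver_structure f)
  have hsm : Formal.smulMod B (Coh.structureModule T) b = Formal.smulMod R (Coh.structureModule T) (ϖ ^ 1) := by
    rw [pow_one]
    exact congrArg (Formal.smulModΓ (Coh.structureModule T)) hb
  have hw' : Formal.smulMod B (Coh.structureModule T) b ≫ ClSub.unitToPush i = 0 := by
    rw [hsm, ← unit_comp i, ← Category.assoc]
    exact (congrArg (· ≫ _) w).trans zero_comp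
  have hmono' : Mono (Formal.smulMod B (Coh.structureModule T) b) := by
    rw [hsm, pow_one]; exact hmono
  have hepi' : Epi (ClSub.unitToPush i) := by
    rw [← unit_comp i]
    exact epi_comp _ _
  refine ⟨hw', ?_⟩
  let e : ShortComplex.mk _ _ w ≅ ShortComplex.mk _ _ hw' :=
    ShortComplex.isoMk (Iso.refl _) (Iso.refl _)
      ((Scheme.Modules.pushforward i).mapIso (Groth.Agent.Fga.UnitRestrict.pullbackUnitIso i))
      (by simp only [Iso.refl_hom, Category.id_comp, Category.comp_id]; exact hsm)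
      (by
        simp only [Iso.refl_hom, Category.id_comp, Functor.mapIso_hom]
        exact (unit_comp i).symm)
  exact { exact := (ShortComplex.exact_iff_of_iso e).1 hw, mono_f := hmono', epi_g := hepi' }

end Seq

theorem exists_pow_killed {B : Type u} [CommRing B] [IsNoetherianRing B] (m : Ideal B) (F : Type u) [AddCommGroup F]
    [Module B F] [Module.Finite B F] (h : ∀ b ∈ m, ∀ x : F, ∃ n : ℕ, b ^ n • x = 0) :
    ∃ N : ℕ, ∀ b ∈ m ^ N, ∀ x : F, b • x = 0 := by
  have h1 : m ≤ (Module.annihilator B F).radical := by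
    intro b hb
    obtain ⟨s, hs⟩ := (inferInstance : Module.Finite B F).fg_top
    choose n hn using h b hb
    refine ⟨s.sup n, ?_⟩
    rw [Module.mem_annihilator]
    intro x
    have hx : x ∈ Submodule.span B (s : Set F) := by rw [hs]; trivial
    induction hx using Submodule.span_induction with
    | mem x hx =>
      have h2 : n x ≤ s.sup n := Finset.le_sup hx
      rw [← Nat.sub_add_cancel h2, pow_add, mul_smul, hn, smul_zero]
    | zero => exact smul_zero _
    | add x y _ _ hx hy => rw [smul_add, hx, hy, add_zero]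
    | smul a x _ hx => rw [smul_comm, hx, smul_zero]
  obtain ⟨N, hN⟩ := Ideal.exists_pow_le_of_le_radical_of_fg h1 (IsNoetherian.noetherian m)
  exact ⟨N, fun b hb x => Module.mem_annihilator.1 (hN hb) x⟩

section Main

variable {R : Type u} [CommRing R] [IsDomain R] [IsDiscreteValuationRing R] {k : Type u} [Field k]
  (ρ : R →+* k) (hρ : Function.Surjective ρ) {T U : Scheme.{u}} {B : Type u} [CommRing B] [IsNoetherianRing B]
  (f : T ⟶ Spec (CommRingCat.of R)) [Flat f] (ψ : T ⟶ Spec (CommRingCat.of B)) [IsProper ψ]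
  (hψ : Function.Surjective (Coh.toGlobal ψ)) (r : R →+* B) (hr : ψ ≫ Spec.map (CommRingCat.ofHom r) = f)
  (i : U ⟶ T) (q : U ⟶ Spec (CommRingCat.of k))
  (h : IsPullback i q f (Spec.map (CommRingCat.ofHom ρ)))
  (hdim : ∀ y, topologicalKrullDim ↑(ψ.fiber y) ≤ 1)
  (m : Ideal B) [m.IsMaximal] (hm : ∀ b : B, ∃ c : R, b - r c ∈ m)
  (haff : ∀ b ∈ m, IsAffineOpen (ψ ⁻¹ᵁ (PrimeSpectrum.basicOpen b)))

include hρ hψ hr h hdim hm haff in
theorem count_main :
    letI : Algebra Γ(T, ⊤) Γ(U, ⊤) := i.appTop.hom.toAlgebra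
    letI : U.Over (Spec (CommRingCat.of k)) := ⟨q⟩
    Module.length Γ(T, ⊤) (Γ(U, ⊤) ⧸ LinearMap.range (Algebra.linearMap Γ(T, ⊤) Γ(U, ⊤))) =
      Module.length k (Coh.HH U (Coh.structureModule U) 1) ∧
    Module.length k (Coh.HH U (Coh.structureModule U) 1) ≠ ⊤ := by
  let : Algebra Γ(T, ⊤) Γ(U, ⊤) := i.appTop.hom.toAlgebra
  let : T.Over (Spec (CommRingCat.of B)) := ⟨ψ⟩
  have hprop : IsProper (T ↘ Spec (CommRingCat.of B)) := ‹IsProper ψ›
  have hsp : IsClosedImmersion (Spec.map (CommRingCat.ofHom ρ)) := IsClosedImmersion.spec_of_surjective _ hρ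
  have hci : IsClosedImmersion i := MorphismProperty.of_isPullback (P := @IsClosedImmersion) h.flip hsp
  obtain ⟨ϖ, hϖ⟩ := IsDiscreteValuationRing.exists_irreducible R
  have hb : Coh.toGlobal (T ↘ Spec (CommRingCat.of B)) (r ϖ) = Coh.toGlobal f ϖ := by
    rw [← hr]
    exact (toGlobal_comp_map r ψ ϖ).symm
  obtain ⟨w, hS⟩ := exists_shortExact ρ hρ f i q h ϖ hϖ (r ϖ) hb
  have : IsLocallyNoetherian T := LocallyOfFiniteType.isLocallyNoetherian ψ
  have hfin : Module.Finite B (Coh.HH T (Coh.structureModule T) 1) :=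
    Groth.Agent.S0002.result B T (Coh.structureModule T) (Groth.Agent.Fdesc.StructMod.isCoh_structureModule T) 1
  have hqc : Coh.IsQCoh (Coh.structureModule T) := (Groth.Agent.Fdesc.StructMod.isQCoh_structureModule T)
  obtain ⟨N, hN⟩ := exists_pow_killed m (Coh.HH T (Coh.structureModule T) 1) (fun b hb x =>
    K376.RatDivC.exists_pow_smul (Coh.structureModule T) hqc b 1 one_pos (haff b hb) x)
  have hlen := length_ne_top m N (Coh.HH T (Coh.structureModule T) 1) hN
  have h2 : Subsingleton (Coh.HH T (Coh.structureModule T) 2) :=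
    Groth.Agent.Flat2G.FibDimVanish.subsingleton_HH ψ 1 (fun y => by simpa using hdim y) _ hqc 2 (by omega)
  have hcount := count (r ϖ) (ClSub.unitToPush i) w hS h2 hlen
  rw [length_sections i hψ] at hcount
  have hkill := fun (b : B) (hb : b ∈ m ^ N) (y : Coh.HH T ((Scheme.Modules.pushforward i).obj (Coh.structureModule U)) 1) =>
    HH_one_killed (r ϖ) (ClSub.unitToPush i) w hS h2 b (hN b hb) y
  -- transport to `U`
  let iB : U.Over (Spec (CommRingCat.of B)) := ⟨i ≫ ψ⟩
  let iR : U.Over (Spec (CommRingCat.of R)) := ⟨i ≫ f⟩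
  let iK : U.Over (Spec (CommRingCat.of k)) := ⟨q⟩
  have hqU : Coh.IsQCoh (Coh.structureModule U) := (Groth.Agent.Fdesc.StructMod.isQCoh_structureModule U)
  obtain ⟨e⟩ := Groth.Agent.VarietyB.HHPush.exists_linearEquiv i B rfl (Coh.structureModule U) hqU 1
  have hl1 : Module.length B (Coh.HH T ((Scheme.Modules.pushforward i).obj (Coh.structureModule U)) 1) =
      Module.length B (Coh.HH U (Coh.structureModule U) 1) := e.length_eq
  have hkill' : ∀ b ∈ m ^ N, ∀ y : Coh.HH U (Coh.structureModule U) 1, b • y = 0 := by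
    intro b hb y
    obtain ⟨y, rfl⟩ := e.surjective y
    rw [← map_smul, hkill b hb, map_zero]
  let aRB : Algebra R B := r.toAlgebra
  have hst : IsScalarTower R B (Coh.HH U (Coh.structureModule U) 1) := by
    refine ⟨fun c b x => ?_⟩
    have h1 : ∀ (c : R) (x : Coh.HH U (Coh.structureModule U) 1), c • x = r c • x := by
      intro c x
      change Coh.toGlobal (i ≫ f) c • x = Coh.toGlobal (i ≫ ψ) (r c) • x
      rw [← toGlobal_comp_map, Category.assoc, hr]
    rw [h1, ← mul_smul]
    rfl
  have hl2 : Module.length B (Coh.HH U (Coh.structureModule U) 1) =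
      Module.length R (Coh.HH U (Coh.structureModule U) 1) :=
    length_eq m hm N _ hkill'
  have hl3 : Module.length R (Coh.HH U (Coh.structureModule U) 1) =
      Module.length k (Coh.HH U (Coh.structureModule U) 1) := by
    refine length_eq_of_semilinear ρ hρ (AddEquiv.refl _) (fun c x => ?_)
    change Coh.toGlobal (i ≫ f) c • x = Coh.toGlobal q (ρ c) • x
    rw [← toGlobal_comp_map, h.w]
  refine ⟨hcount.trans (hl1.trans (hl2.trans hl3)), ?_⟩
  rw [← hl3, ← hl2, ← hl1]
  have h3 : Function.Surjective (HHmap B (ClSub.unitToPush i) 1) := by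
    intro y
    have e3 : Function.Exact (HHmap B (ClSub.unitToPush i) 1) (δ B hS 1) := exact_map_δ B hS 1
    exact (e3 y).1 (Subsingleton.elim (α := Coh.HH T (Coh.structureModule T) 2) _ _)
  exact ne_top_of_le_ne_top hlen (Module.length_le_of_surjective _ h3)

end Main

end Groth.Agent.Curv2.K96.ContrDvr
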