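import Groth.Agent.S18353
import Groth.Agent.S2156
import Groth.Agent.Flat2G.ProperDim
import Groth.Agent.Curv2.K96.ContrIso

/-!
# Opens of the base over which a birational morphism of families of curves is an isomorphism
-/

set_option autoImplicit false
universe u

open CategoryTheory CategoryTheory.Limits AlgebraicGeometry Opposite TopologicalSpace

namespace Groth.Agent.Curv2.K96.ContrFam

open Groth.Agent

/-- Base change along a morphism with image in an open set over which a property holds. -/
theorem prop_of_range (P : MorphismProperty Scheme.{u}) [P.IsStableUnderBaseChange] {X S X' T : Scheme.{u}}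
    (f : X ⟶ S) (V : S.Opens) (hV : P (f ∣_ V)) (g : T ⟶ S) (hg : ∀ t, g t ∈ V) {a : X' ⟶ X} {f' : X' ⟶ T}
    (h : IsPullback a f' f g) : P f' := by
  have hr : Set.range g ⊆ Set.range V.ι := by
    rw [Scheme.Opens.range_ι]
    rintro _ ⟨t, rfl⟩
    exact hg t
  let g' : T ⟶ V.toScheme := IsOpenImmersion.lift V.ι g hr
  have hg' : g' ≫ V.ι = g := IsOpenImmersion.lift_fac _ _ _
  have h1 := isPullback_morphismRestrict f V
  have hw : (f' ≫ g') ≫ V.ι = a ≫ f := by rw [Category.assoc, hg', h.w]
  let a' : X' ⟶ (f ⁻¹ᵁ V).toScheme := h1.lift (f' ≫ g') a hw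
  have e1 : a' ≫ (f ⁻¹ᵁ V).ι = a := h1.lift_snd _ _ _
  have e2 : a' ≫ (f ∣_ V) = f' ≫ g' := h1.lift_fst _ _ _
  have h2 : IsPullback (a' ≫ (f ⁻¹ᵁ V).ι) f' f (g' ≫ V.ι) := by rw [e1, hg']; exact h
  exact MorphismProperty.of_isPullback (IsPullback.of_right h2 e2 h1.flip) hV

/-- A flat proper morphism is smooth over a neighbourhood of a point with smooth fibre. -/
theorem exists_open_smooth {X S : Scheme.{u}} (f : X ⟶ S) [Flat f] [IsProper f] [LocallyOfFinitePresentation f] (s : S)
    (h : Smooth (f.fiberToSpecResidueField s)) : ∃ V : S.Opens, s ∈ V ∧ Smooth (f ∣_ V) := by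
  let K : Set X := (f.smoothLocus : Set X)ᶜ
  have hK : IsClosed (f '' K) := f.isClosedMap _ f.smoothLocus.isOpen.isClosed_compl
  let V : S.Opens := ⟨(f '' K)ᶜ, hK.isOpen_compl⟩
  refine ⟨V, ?_, ?_⟩
  · rintro ⟨x, hx, rfl⟩
    apply hx
    have h1 : LocallyOfFinitePresentation (f.fiberToSpecResidueField (f.base x)) :=
      MorphismProperty.pullback_snd _ _ inferInstance
    refine (S2156.result f x).2 ⟨Flat.stalkMap f x, ?_⟩
    have h2 : Smooth (f.fiberToSpecResidueField (f.base x)) := h
    rw [Scheme.Hom.smoothLocus_eq_top (f.fiberToSpecResidueField (f.base x))]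
    trivial
  · rw [← Scheme.Hom.smoothLocus_eq_top_iff, eq_top_iff]
    intro x _
    have h1 : x.1 ∈ f.smoothLocus := by
      by_contra hx
      exact x.2 ⟨x.1, hx, rfl⟩
    exact (RingHom.FormallySmooth.respectsIso.arrow_mk_iso_iff (morphismRestrictStalkMap f V x)).2 h1

/-- A proper morphism bijective on functions is an isomorphism over the open set where the fibres are finite. -/
theorem isIso_of_app {X Y : Scheme.{u}} (φ : X ⟶ Y) [IsProper φ] (happ : ∀ V : Y.Opens, IsIso (φ.app V)) (D : Y.Opens)
    (hfin : ∀ y ∈ D, (φ ⁻¹' {y}).Finite) : IsIso (φ ∣_ D) := by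
  refine ContrIso.isIso_morphismRestrict_of_cover φ D fun y hy => ?_
  obtain ⟨V, hV, hyV, hVD⟩ := exists_isAffineOpen_mem_and_subset (U := D) hy
  refine ⟨V, hyV, hVD, ?_⟩
  obtain ⟨hU, -⟩ := ContrIso.isAffineOpen_preimage φ V hV (fun y hy => hfin y (hVD hy))
  have := happ V
  exact ContrIso.isIso_morphismRestrict_of_bijective φ V hV hU (ConcreteCategory.bijective_of_isIso (φ.app V))

/-- The fibres of a proper morphism with fibre of dimension at most zero are finite. -/
theorem finite_of_dim {X Y : Scheme.{u}} (φ : X ⟶ Y) [IsProper φ] (y : Y)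
    (h : topologicalKrullDim (φ.fiber y) ≤ 0) : (φ ⁻¹' {y}).Finite := by
  have h1 : IsProper (φ.fiberToSpecResidueField y) := MorphismProperty.pullback_snd _ _ inferInstance
  have h2 : IsLocallyNoetherian (φ.fiber y) := LocallyOfFiniteType.isLocallyNoetherian (φ.fiberToSpecResidueField y)
  have h3 : CompactSpace (φ.fiber y) := QuasiCompact.compactSpace_of_compactSpace (φ.fiberToSpecResidueField y)
  have h4 : IsNoetherian (φ.fiber y) := { }
  have hfin : (Set.univ : Set (φ.fiber y)).Finite := by
    refine ContrTop.finite_of_isClosed isClosed_univ fun x _ => ?_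
    by_contra hcl
    have hex : ∃ x', x ⤳ x' ∧ x' ≠ x := by
      by_contra hcon
      push Not at hcon
      apply hcl
      have : closure {x} = ({x} : Set (φ.fiber y)) := by
        refine subset_antisymm (fun z hz => ?_) subset_closure
        exact hcon z (specializes_iff_mem_closure.2 hz)
      rw [← this]
      exact isClosed_closure
    obtain ⟨x', hx', hne'⟩ := hex
    rw [topologicalKrullDim, Order.krullDim_nonpos_iff_forall_isMax] at h
    let a : IrreducibleCloseds (φ.fiber y) := ⟨closure {x}, isIrreducible_singleton.closure, isClosed_closure⟩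
    let b : IrreducibleCloseds (φ.fiber y) := ⟨closure {x'}, isIrreducible_singleton.closure, isClosed_closure⟩
    have hba : b ≤ a := by
      change closure {x'} ⊆ closure {x}
      exact closure_minimal (Set.singleton_subset_iff.2 (specializes_iff_mem_closure.1 hx')) isClosed_closure
    have hab : a ≤ b := h b hba
    have hyx : x' ⤳ x := by
      rw [specializes_iff_mem_closure]
      exact hab (subset_closure rfl)
    exact hne' (hyx.antisymm hx').eq
  have h5 := hfin.image (φ.fiberι y)
  rw [Set.image_univ, φ.range_fiberι] at h5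
  exact h5

/-- A sober space without non-trivial specializations has dimension at most zero. -/
theorem dim_nonpos {T : Type u} [TopologicalSpace T] [QuasiSober T] (h : ∀ x y : T, x ⤳ y → x = y) :
    topologicalKrullDim T ≤ 0 := by
  rw [topologicalKrullDim, Order.krullDim_nonpos_iff_forall_isMax]
  intro a b hab
  obtain ⟨x, hx⟩ := QuasiSober.sober a.isIrreducible a.isClosed
  obtain ⟨y, hy⟩ := QuasiSober.sober b.isIrreducible b.isClosed
  have h1 : y ⤳ x := by
    rw [specializes_iff_mem_closure, hy.def]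
    have h3 : x ∈ (a : Set T) := by
      rw [← hx.def]
      exact subset_closure rfl
    exact hab h3
  have h2 := h _ _ h1
  subst h2
  change (b : Set T) ⊆ a
  rw [← hx.def, ← hy.def]

/-- Over a neighbourhood of the generic point a birational morphism of families of curves is an isomorphism. -/
theorem exists_open_iso (S X Y : Scheme.{u}) [IsIntegral S]
    [IsNoetherian S] (hS : Pi1.IsNormalScheme S) (π₁ : X ⟶ S) (π₂ : Y ⟶ S)
    [Flat π₁] [IsProper π₁] [LocallyOfFinitePresentation π₁] [GeometricallyReduced π₁] [GeometricallyConnected π₁]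
    [Flat π₂] [IsProper π₂] [LocallyOfFinitePresentation π₂] [GeometricallyReduced π₂] [GeometricallyConnected π₂]
    (hdim₁ : ∀ s : ↥S, topologicalKrullDim ↥(π₁.fiber s) = 1) (hdim₂ : ∀ s : ↥S, topologicalKrullDim ↥(π₂.fiber s) = 1)
    (hsm₁ : Smooth (π₁.fiberToSpecResidueField (genericPoint ↥S)))
    (hsm₂ : Smooth (π₂.fiberToSpecResidueField (genericPoint ↥S)))
    (φ : X ⟶ Y) (hφ : φ ≫ π₂ = π₁) (hbir : ∃ U : Y.Opens, Dense (U : Set ↥Y) ∧ IsIso (φ ∣_ U)) :
    ∃ V : S.Opens, genericPoint S ∈ V ∧ IsIso (φ ∣_ (π₂ ⁻¹ᵁ V)) := by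
  have happ := S18353.result S X Y hS π₁ π₂ hdim₁ hdim₂ hsm₁ hsm₂ φ hφ hbir
  have hprop : IsProper φ := by
    have : IsProper (φ ≫ π₂) := hφ ▸ inferInstance
    exact IsProper.of_comp φ π₂
  have hI₁ := S18353.isIntegral_total hS π₁ hdim₁ hsm₁
  have hI₂ := S18353.isIntegral_total hS π₂ hdim₂ hsm₂
  obtain ⟨U, hU, hiso⟩ := hbir
  obtain ⟨hgen, -⟩ := S18353.gen_of_iso φ U hU
  let K : Set Y := {y : Y | topologicalKrullDim (φ.fiber y) ≤ (0 : ℕ)}ᶜ
  have hK : IsClosed K := (Flat2G.ProperDim.isOpen_topologicalKrullDim_fiber_le φ φ.isClosedMap 0).isClosed_compl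
  have hK' : IsClosed (π₂ '' K) := π₂.isClosedMap _ hK
  let V : S.Opens := ⟨(π₂ '' K)ᶜ, hK'.isOpen_compl⟩
  refine ⟨V, ?_, ?_⟩
  · rintro ⟨y, hy, hyη⟩
    apply hy
    change topologicalKrullDim (φ.fiber y) ≤ (0 : ℕ)
    rw [Nat.cast_zero]
    refine dim_nonpos fun x x' hxx' => ?_
    apply (φ.fiberι y).isEmbedding.injective
    have hx : φ (φ.fiberι y x) = y := by
      have h1 : φ.fiberι y x ∈ Set.range (φ.fiberι y) := ⟨x, rfl⟩
      rw [φ.range_fiberι] at h1
      exact h1
    have hx' : φ (φ.fiberι y x') = y := by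
      have h1 : φ.fiberι y x' ∈ Set.range (φ.fiberι y) := ⟨x', rfl⟩
      rw [φ.range_fiberι] at h1
      exact h1
    have hsp : φ.fiberι y x ⤳ φ.fiberι y x' := hxx'.map (φ.fiberι y).continuous
    by_contra hne
    have hπ : ∀ z : X, π₁ z = π₂ (φ z) := fun z => by rw [← hφ]; rfl
    have hη : π₁ (genericPoint X) = genericPoint S := by
      have h1 : π₁ (genericPoint X) ⤳ π₁ (φ.fiberι y x) := (genericPoint_specializes _).map π₁.continuous
      rw [hπ (φ.fiberι y x), hx, hyη] at h1
      exact (h1.antisymm (genericPoint_specializes _)).eq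
    -- lift to the generic fibre
    have hlift : ∀ z : X, π₁ z = genericPoint S → ∃ z' : π₁.fiber (genericPoint S), π₁.fiberι _ z' = z := by
      intro z hz
      have h1 : z ∈ Set.range (π₁.fiberι (genericPoint S)) := by
        rw [π₁.range_fiberι]
        exact hz
      exact h1
    obtain ⟨ξ, hξ⟩ := hlift _ hη
    obtain ⟨z, hz⟩ := hlift (φ.fiberι y x) (by rw [hπ, hx, hyη])
    obtain ⟨z', hz'⟩ := hlift (φ.fiberι y x') (by rw [hπ, hx', hyη])
    have hemb := (π₁.fiberι (genericPoint S)).isEmbedding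
    have e1 : ξ ⤳ z := by
      rw [← hemb.isInducing.specializes_iff, hξ]
      exact genericPoint_specializes _
    have e2 : z ⤳ z' := by
      rw [← hemb.isInducing.specializes_iff, hz, hz']
      exact hsp
    by_cases hξz : ξ = z
    · -- the generic point lies in the fibre
      subst hξz
      rw [hξ] at hz
      have hy' : y = genericPoint Y := by rw [← hx, ← hz, hgen]
      have hgU : genericPoint ↥Y ∈ U :=
        ((genericPoint_spec ↥Y).mem_open_set_iff U.isOpen).mpr (by simpa using hU.nonempty)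
      have hinj : Function.Injective (φ ∣_ U) := (φ ∣_ U).homeomorph.injective
      have m1 : φ.fiberι y x ∈ φ ⁻¹ᵁ U := by change φ _ ∈ U; rw [hx, hy']; exact hgU
      have m2 : φ.fiberι y x' ∈ φ ⁻¹ᵁ U := by change φ _ ∈ U; rw [hx', hy']; exact hgU
      have h1 : (⟨_, m1⟩ : φ ⁻¹ᵁ U) = ⟨_, m2⟩ := by
        apply hinj
        apply Subtype.ext
        rw [morphismRestrict_base_coe, morphismRestrict_base_coe, hx, hx']
      exact hne (congrArg Subtype.val h1)
    · have h1 := ContrTop.isClosed_singleton_of_specializes (hdim₁ (genericPoint S)).le e1 hξz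
      have h2 : z' ∈ closure ({z} : Set (π₁.fiber (genericPoint S))) := specializes_iff_mem_closure.1 e2
      rw [h1.closure_eq] at h2
      have h2 : z' = z := h2
      rw [h2, hz] at hz'
      exact hne hz'
  · refine isIso_of_app φ happ _ fun y hy => finite_of_dim φ y ?_
    by_contra hcon
    exact hy ⟨y, fun h => hcon (by simpa using h), rfl⟩

end Groth.Agent.Curv2.K96.ContrFam
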