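import Mathlib.Topology.KrullDimension
import Mathlib.Topology.NoetherianSpace
import Mathlib.Topology.Sober
import Mathlib.Topology.Connected.Clopen

/-!
# The topology of a contraction of curves

`ψ : X → Y` continuous, closed and surjective with connected fibres, `X` Noetherian, sober, of dimension at most one;
`E` the union of the irreducible components of `X` with a single image point.
-/

set_option autoImplicit false
universe u

open TopologicalSpace Set

namespace Groth.Agent.Curv2.K96.ContrTop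

theorem isClosed_singleton_of_specializes {X : Type u} [TopologicalSpace X] [T0Space X]
    (hdim : topologicalKrullDim X ≤ 1) {ξ x : X} (h : ξ ⤳ x) (hne : ξ ≠ x) : IsClosed ({x} : Set X) := by
  by_contra hcl
  have hex : ∃ x', x ⤳ x' ∧ x' ≠ x := by
    by_contra hcon
    push Not at hcon
    apply hcl
    have : closure {x} = ({x} : Set X) := by
      refine subset_antisymm (fun z hz => ?_) subset_closure
      exact hcon z (specializes_iff_mem_closure.2 hz)
    rw [← this]
    exact isClosed_closure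
  obtain ⟨x', hx', hne'⟩ := hex
  let c : X → IrreducibleCloseds X := fun x => ⟨closure {x}, isIrreducible_singleton.closure, isClosed_closure⟩
  have hle : ∀ {a b : X}, a ⤳ b → c b ≤ c a := fun {a b} hab => by
    change closure {b} ⊆ closure {a}
    exact closure_minimal (Set.singleton_subset_iff.2 (specializes_iff_mem_closure.1 hab)) isClosed_closure
  have hneq : ∀ {a b : X}, c b = c a → a = b := fun {a b} hab => by
    have h1 : closure {b} = closure {a} := congrArg (fun z : IrreducibleCloseds X => (z : Set X)) hab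
    have h2 : a ⤳ b := specializes_iff_mem_closure.2 (h1 ▸ subset_closure rfl)
    have h3 : b ⤳ a := specializes_iff_mem_closure.2 (h1 ▸ subset_closure rfl)
    exact (h2.antisymm h3).eq
  have h1 : c x' < c x := lt_of_le_of_ne (hle hx') (fun h => hne' (hneq h).symm)
  have h2 : c x < c ξ := lt_of_le_of_ne (hle h) (fun h => hne (hneq h))
  let s : LTSeries (IrreducibleCloseds X) :=
    ((RelSeries.singleton _ (c x')).snoc (c x) h1).snoc (c ξ) (by simpa using h2)
  have h3 := Order.LTSeries.length_le_krullDim s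
  have h4 : ((2 : ℕ) : WithBot ℕ∞) ≤ 1 := le_trans h3 hdim
  exact absurd h4 (by decide)

section

variable {X : Type u} [TopologicalSpace X]

theorem exists_generic [QuasiSober X] {Z : Set X} (hZ : Z ∈ irreducibleComponents X) :
    ∃ ξ, closure {ξ} = Z ∧ ξ ∈ Z := by
  obtain ⟨g, hg⟩ := QuasiSober.sober hZ.1 (isClosed_of_mem_irreducibleComponents Z hZ)
  exact ⟨g, hg.def, hg.def ▸ subset_closure rfl⟩

theorem exists_component (x : X) : ∃ Z ∈ irreducibleComponents X, x ∈ Z := by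
  obtain ⟨Z, hZ, hxZ⟩ := exists_mem_irreducibleComponents_subset_of_isIrreducible ({x} : Set X)
    isIrreducible_singleton
  exact ⟨Z, hZ, hxZ rfl⟩

/-- A closed set of closed points is finite. -/
theorem finite_of_isClosed [NoetherianSpace X] [QuasiSober X] {W : Set X} (hW : IsClosed W)
    (h : ∀ x ∈ W, IsClosed ({x} : Set X)) : W.Finite := by
  obtain ⟨S, hS, hS1, hS2, hS3⟩ := NoetherianSpace.exists_finite_set_isClosed_irreducible hW
  rw [hS3]
  refine hS.sUnion fun V hV => ?_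
  obtain ⟨g, hg⟩ := QuasiSober.sober (hS2 V hV) (hS1 V hV)
  have h1 : g ∈ W := by
    rw [hS3]
    exact ⟨V, hV, hg.def ▸ subset_closure rfl⟩
  rw [← hg.def, (h g h1).closure_eq]
  exact Set.finite_singleton g

/-- The generic point of a component lies in the interior of a set containing the component. -/
theorem mem_interior_of_component_subset [NoetherianSpace X] {Z K : Set X} (hK : K ∈ irreducibleComponents X)
    (hKZ : K ⊆ Z) {ξ : X} (hξ : closure {ξ} = K) : ξ ∈ interior Z := by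
  have hfin : (irreducibleComponents X).Finite := NoetherianSpace.finite_irreducibleComponents
  let W : Set X := ⋃₀ (irreducibleComponents X \ {K})
  have hW : IsClosed W := by
    change IsClosed (⋃₀ (irreducibleComponents X \ {K}))
    rw [sUnion_eq_biUnion]
    exact (hfin.subset sdiff_subset).isClosed_biUnion fun V hV => isClosed_of_mem_irreducibleComponents V hV.1
  have h1 : Wᶜ ⊆ Z := by
    intro x hx
    obtain ⟨V, hV, hxV⟩ := exists_component x
    by_cases h : V = K
    · exact hKZ (h ▸ hxV)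
    · exact absurd ⟨V, ⟨hV, h⟩, hxV⟩ hx
  refine mem_interior.2 ⟨Wᶜ, h1, hW.isOpen_compl, ?_⟩
  rintro ⟨V, ⟨hV, hVK⟩, hξV⟩
  have h2 : K ⊆ V := by
    rw [← hξ]
    exact closure_minimal (singleton_subset_iff.2 hξV) (isClosed_of_mem_irreducibleComponents V hV)
  exact hVK (subset_antisymm (hK.2 hV.1 h2) h2)

end

section Contr

variable {X Y : Type u} [TopologicalSpace X] [TopologicalSpace Y] [NoetherianSpace X] [QuasiSober X] [T0Space X]
  [T0Space Y] {ψ : X → Y} (hc : Continuous ψ) (hcl : IsClosedMap ψ) (hdim : topologicalKrullDim X ≤ 1)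

/-- The union of the contracted components. -/
def exc (ψ : X → Y) : Set X := ⋃₀ {Z : Set X | Z ∈ irreducibleComponents X ∧ (ψ '' Z).Subsingleton}

omit [QuasiSober X] [T0Space X] [T0Space Y] [TopologicalSpace Y] in
theorem isClosed_exc (ψ : X → Y) : IsClosed (exc ψ) := by
  have hfin : (irreducibleComponents X).Finite := NoetherianSpace.finite_irreducibleComponents
  rw [exc, sUnion_eq_biUnion]
  exact (hfin.subset (fun Z hZ => hZ.1)).isClosed_biUnion fun V hV => isClosed_of_mem_irreducibleComponents V hV.1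

include hc hcl hdim in
omit [T0Space Y] in
/-- A fibre meets a component which is not contracted in finitely many points, closed if the fibre is closed. -/
theorem finite_inter {Z : Set X} (hZ : Z ∈ irreducibleComponents X) (hZn : ¬ (ψ '' Z).Subsingleton) (y : Y) :
    (Z ∩ ψ ⁻¹' {y}).Finite ∧ (IsClosed ({y} : Set Y) → ∀ x ∈ Z ∩ ψ ⁻¹' {y}, IsClosed ({x} : Set X)) := by
  obtain ⟨ξ, hξ, hξZ⟩ := exists_generic hZ
  have hsp : ∀ x ∈ Z, ξ ⤳ x := fun x hx => specializes_iff_mem_closure.2 (hξ ▸ hx)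
  by_cases hy : IsClosed ({y} : Set Y)
  · have hne : ∀ x ∈ Z ∩ ψ ⁻¹' {y}, ξ ≠ x := by
      rintro x ⟨-, hx⟩ rfl
      apply hZn
      have h1 : Z ⊆ ψ ⁻¹' {y} := by
        rw [← hξ]
        exact closure_minimal (singleton_subset_iff.2 hx) (hy.preimage hc)
      rintro _ ⟨a, ha, rfl⟩ _ ⟨b, hb, rfl⟩
      rw [show ψ a = y from h1 ha, show ψ b = y from h1 hb]
    have hpt : ∀ x ∈ Z ∩ ψ ⁻¹' {y}, IsClosed ({x} : Set X) := fun x hx =>
      isClosed_singleton_of_specializes hdim (hsp x hx.1) (hne x hx)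
    exact ⟨finite_of_isClosed ((isClosed_of_mem_irreducibleComponents Z hZ).inter (hy.preimage hc)) hpt, fun _ => hpt⟩
  · refine ⟨(finite_singleton ξ).subset ?_, fun h => absurd h hy⟩
    rintro x ⟨hxZ, hx⟩
    by_contra hne
    apply hy
    have h1 : IsClosed ({x} : Set X) := isClosed_singleton_of_specializes hdim (hsp x hxZ) (fun h => hne h.symm)
    have h2 := hcl _ h1
    rw [image_singleton, show ψ x = y from hx] at h2
    exact h2

include hc hcl hdim in
omit [T0Space Y] in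
theorem finite_fibre (y : Y) (h : ψ ⁻¹' {y} ∩ exc ψ = ∅) : (ψ ⁻¹' {y}).Finite := by
  have hfin : (irreducibleComponents X).Finite := NoetherianSpace.finite_irreducibleComponents
  have h1 : (⋃ Z ∈ irreducibleComponents X, Z ∩ ψ ⁻¹' {y}).Finite := by
    refine hfin.biUnion fun Z hZ => ?_
    by_cases hZn : (ψ '' Z).Subsingleton
    · have h2 : Z ∩ ψ ⁻¹' {y} = ∅ := by
        rw [eq_empty_iff_forall_notMem]
        rintro x ⟨hxZ, hx⟩
        have h3 : x ∈ ψ ⁻¹' {y} ∩ exc ψ := ⟨hx, Z, ⟨hZ, hZn⟩, hxZ⟩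
        rw [h] at h3
        exact h3
      rw [h2]
      exact finite_empty
    · exact (finite_inter hc hcl hdim hZ hZn y).1
  refine h1.subset fun x hx => ?_
  obtain ⟨Z, hZ, hxZ⟩ := exists_component x
  exact mem_biUnion hZ ⟨hxZ, hx⟩

omit [NoetherianSpace X] [QuasiSober X] [T0Space X] [T0Space Y] in
include hcl in
theorem isClosed_image {x : X} (hx : x ∈ exc ψ) : IsClosed ({ψ x} : Set Y) := by
  obtain ⟨Z, ⟨hZ, hZs⟩, hxZ⟩ := hx
  have h1 : ψ '' Z = {ψ x} := by
    refine subset_antisymm (fun y hy => hZs hy ⟨x, hxZ, rfl⟩) ?_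
    rw [singleton_subset_iff]
    exact ⟨x, hxZ, rfl⟩
  rw [← h1]
  exact hcl _ (isClosed_of_mem_irreducibleComponents Z hZ)

omit [QuasiSober X] [T0Space X] [T0Space Y] [TopologicalSpace Y] in
theorem finite_image_exc (ψ : X → Y) : (ψ '' exc ψ).Finite := by
  have hfin : (irreducibleComponents X).Finite := NoetherianSpace.finite_irreducibleComponents
  rw [exc, sUnion_eq_biUnion, image_iUnion₂]
  exact (hfin.subset (fun Z hZ => hZ.1)).biUnion fun Z hZ => hZ.2.finite

variable (hconn : ∀ y : Y, IsPreconnected (ψ ⁻¹' {y}))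

include hc hcl hdim hconn in
omit [T0Space Y] in
theorem fibre_subset_exc {x : X} (hx : x ∈ exc ψ) : ψ ⁻¹' {ψ x} ⊆ exc ψ := by
  have hfin : (irreducibleComponents X).Finite := NoetherianSpace.finite_irreducibleComponents
  have hy := isClosed_image hcl hx
  let 𝒦 : Set (Set X) := {Z | Z ∈ irreducibleComponents X ∧ ¬ (ψ '' Z).Subsingleton}
  let F : Set X := ⋃ Z ∈ 𝒦, Z ∩ ψ ⁻¹' {ψ x}
  have hF : F.Finite := (hfin.subset fun Z hZ => hZ.1).biUnion fun Z hZ => (finite_inter hc hcl hdim hZ.1 hZ.2 _).1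
  have hFc : ∀ z ∈ F, IsClosed ({z} : Set X) := by
    intro z hz
    obtain ⟨Z, hZ, hzZ⟩ := mem_iUnion₂.1 hz
    exact (finite_inter hc hcl hdim hZ.1 hZ.2 _).2 hy z hzZ
  let G : Set X := F \ exc ψ
  have hG : IsClosed G := by
    have h1 : G = ⋃ z ∈ G, {z} := by simp
    rw [h1]
    exact (hF.subset sdiff_subset).isClosed_biUnion fun z hz => hFc z hz.1
  have hcov : ψ ⁻¹' {ψ x} ⊆ exc ψ ∪ G := by
    intro z hz
    by_cases hzE : z ∈ exc ψ
    · exact Or.inl hzE
    · right
      refine ⟨?_, hzE⟩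
      obtain ⟨Z, hZ, hzZ⟩ := exists_component z
      refine mem_biUnion (show Z ∈ 𝒦 from ⟨hZ, fun h => hzE ⟨Z, ⟨hZ, h⟩, hzZ⟩⟩) ⟨hzZ, hz⟩
  intro z hz
  by_contra hzE
  have h1 := isPreconnected_closed_iff.1 (hconn (ψ x)) (exc ψ) G (isClosed_exc ψ) hG hcov ⟨x, rfl, hx⟩
    ⟨z, hz, (hcov hz).resolve_left hzE⟩
  obtain ⟨w, -, hw1, hw2⟩ := h1
  exact hw2.2 hw1

include hc hcl hdim hconn in
omit [T0Space Y] in
/-- The connected components of the exceptional set are fibres. -/
theorem connectedComponentIn_exc {x : X} (hx : x ∈ exc ψ) : connectedComponentIn (exc ψ) x = ψ ⁻¹' {ψ x} := by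
  refine subset_antisymm ?_ ((hconn (ψ x)).subset_connectedComponentIn rfl (fibre_subset_exc hc hcl hdim hconn hx))
  intro z hz
  by_contra hne
  have h1 : IsPreconnected (ψ '' connectedComponentIn (exc ψ) x) :=
    isPreconnected_connectedComponentIn.image _ hc.continuousOn
  have hsub : connectedComponentIn (exc ψ) x ⊆ exc ψ := connectedComponentIn_subset _ _
  let G : Set Y := ψ '' exc ψ \ {ψ x}
  have hG : IsClosed G := by
    have h2 : G = ⋃ z ∈ G, {z} := by simp
    rw [h2]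
    refine ((finite_image_exc ψ).subset sdiff_subset).isClosed_biUnion ?_
    rintro _ ⟨⟨a, ha, rfl⟩, -⟩
    exact isClosed_image hcl ha
  have h2 := isPreconnected_closed_iff.1 h1 {ψ x} G (isClosed_image hcl hx) hG (by
      rintro _ ⟨a, ha, rfl⟩
      by_cases h : ψ a = ψ x
      · exact Or.inl h
      · exact Or.inr ⟨⟨a, hsub ha, rfl⟩, h⟩) ⟨ψ x, ⟨x, mem_connectedComponentIn hx, rfl⟩, rfl⟩
    ⟨ψ z, ⟨z, hz, rfl⟩, ⟨z, hsub hz, rfl⟩, hne⟩
  obtain ⟨w, -, hw1, hw2⟩ := h2
  exact hw2.2 hw1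

include hc hcl hdim hconn in
omit [T0Space Y] in
/-- Components through a point of an exceptional fibre. -/
theorem exists_contracted {x t : X} (hx : x ∈ exc ψ) (ht : ψ t = ψ x) :
    ∃ K ∈ irreducibleComponents X, t ∈ K ∧ K ⊆ ψ ⁻¹' {ψ x} := by
  obtain ⟨K, ⟨hK, hKs⟩, htK⟩ := fibre_subset_exc hc hcl hdim hconn hx ht
  refine ⟨K, hK, htK, fun z hz => ?_⟩
  change ψ z = ψ x
  rw [← ht]
  exact hKs ⟨z, hz, rfl⟩ ⟨t, htK, rfl⟩

include hc hcl hdim hconn in
omit [T0Space Y] [T0Space X] in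
theorem fibre_subset_closure_interior [T0Space X] {x : X} (hx : x ∈ exc ψ) :
    ψ ⁻¹' {ψ x} ⊆ closure (interior (ψ ⁻¹' {ψ x})) := by
  intro t ht
  obtain ⟨K, hK, htK, hKs⟩ := exists_contracted hc hcl hdim hconn hx ht
  obtain ⟨ξ, hξ, hξK⟩ := exists_generic hK
  have h1 := mem_interior_of_component_subset hK hKs hξ
  have h2 : closure {ξ} ⊆ closure (interior (ψ ⁻¹' {ψ x})) :=
    closure_mono (singleton_subset_iff.2 h1)
  exact h2 (hξ ▸ htK)

include hc hcl hdim hconn in
omit [T0Space Y] in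
/-- The two branches at a point of an exceptional fibre which is in the closure of the complement. -/
theorem exists_generizations {x t : X} (hx : x ∈ exc ψ) (ht : ψ t = ψ x) (ht' : t ∈ closure (ψ ⁻¹' {ψ x})ᶜ) :
    (∃ z, z ⤳ t ∧ z ≠ t ∧ ψ z = ψ x ∧ z ∉ closure (ψ ⁻¹' {ψ x})ᶜ) ∧
    (∃ w, w ⤳ t ∧ w ≠ t ∧ ψ w ≠ ψ x ∧ w ∈ closure (ψ ⁻¹' {ψ x})ᶜ) := by
  constructor
  · obtain ⟨K, hK, htK, hKs⟩ := exists_contracted hc hcl hdim hconn hx ht
    obtain ⟨ξ, hξ, hξK⟩ := exists_generic hK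
    have h1 := mem_interior_of_component_subset hK hKs hξ
    rw [interior_eq_compl_closure_compl] at h1
    refine ⟨ξ, specializes_iff_mem_closure.2 (hξ ▸ htK), ?_, hKs hξK, h1⟩
    rintro rfl
    exact h1 ht'
  · have hfin : (irreducibleComponents X).Finite := NoetherianSpace.finite_irreducibleComponents
    let 𝒦 : Set (Set X) := {K | K ∈ irreducibleComponents X ∧ ∃ ξ, closure {ξ} = K ∧ ψ ξ ≠ ψ x}
    have hcl' : IsClosed (⋃ K ∈ 𝒦, K) :=
      (hfin.subset (fun Z hZ => hZ.1)).isClosed_biUnion fun V hV => isClosed_of_mem_irreducibleComponents V hV.1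
    have hsub : (ψ ⁻¹' {ψ x})ᶜ ⊆ ⋃ K ∈ 𝒦, K := by
      intro u hu
      obtain ⟨K, hK, huK⟩ := exists_component u
      obtain ⟨ξ, hξ, hξK⟩ := exists_generic hK
      refine mem_biUnion (show K ∈ 𝒦 from ⟨hK, ξ, hξ, ?_⟩) huK
      have h1 : ξ ⤳ u := specializes_iff_mem_closure.2 (hξ ▸ huK)
      exact h1.mem_open ((isClosed_image hcl hx).preimage hc).isOpen_compl hu
    have h2 := closure_minimal hsub hcl' ht'
    obtain ⟨K, ⟨hK, ξ, hξ, hne⟩, htK⟩ := mem_iUnion₂.1 h2
    refine ⟨ξ, specializes_iff_mem_closure.2 (hξ ▸ htK), ?_, hne, subset_closure hne⟩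
    rintro rfl
    exact hne ht

include hc hcl in
omit [NoetherianSpace X] [QuasiSober X] [T0Space X] [T0Space Y] in
theorem inter_nonempty [PreconnectedSpace X] (hsurj : Function.Surjective ψ) (hY : ¬ Subsingleton Y) {x : X}
    (hx : x ∈ exc ψ) : (ψ ⁻¹' {ψ x} ∩ closure (ψ ⁻¹' {ψ x})ᶜ).Nonempty := by
  by_contra hcon
  rw [not_nonempty_iff_eq_empty] at hcon
  have h1 : IsClosed (ψ ⁻¹' {ψ x})ᶜ := by
    have h2 : closure (ψ ⁻¹' {ψ x})ᶜ ⊆ (ψ ⁻¹' {ψ x})ᶜ := by
      intro z hz hz'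
      have : z ∈ ψ ⁻¹' {ψ x} ∩ closure (ψ ⁻¹' {ψ x})ᶜ := ⟨hz', hz⟩
      rw [hcon] at this
      exact this
    exact closure_subset_iff_isClosed.1 h2
  have h2 : IsClopen (ψ ⁻¹' {ψ x}) := ⟨(isClosed_image hcl hx).preimage hc, isClosed_compl_iff.1 h1⟩
  have h3 : ψ ⁻¹' {ψ x} = univ := h2.eq_univ ⟨x, rfl⟩
  apply hY
  have h4 : ∀ y : Y, y = ψ x := by
    intro y
    obtain ⟨z, rfl⟩ := hsurj y
    have : z ∈ ψ ⁻¹' {ψ x} := by rw [h3]; trivial
    exact this
  exact ⟨fun a b => (h4 a).trans (h4 b).symm⟩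

end Contr

end Groth.Agent.Curv2.K96.ContrTop
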