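import Groth.Agent.Curv2.K96.ContrMain
import Groth.Agent.Curv2.K96.ContrTop

/-!
# Contractions of at-worst-nodal curves over an algebraically closed field
-/

set_option autoImplicit false
universe u

open CategoryTheory CategoryTheory.Limits AlgebraicGeometry Opposite TopologicalSpace

namespace Groth.Agent.Curv2.K96.ContrField

open Groth.Agent ContrTop

theorem isIso_app_of_restrict {X Y : Scheme.{u}} (ψ : X ⟶ Y) (D : Y.Opens) (h : IsIso (ψ ∣_ D)) : IsIso (ψ.app D) := by
  have h1 : IsIso ((ψ ∣_ D).app ⊤) := inferInstance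
  have h0 := morphismRestrict_app ψ D ⊤
  rw [h0] at h1
  have h2 : IsIso (ψ.app (D.ι ''ᵁ ⊤)) := by
    have h3 : IsIso (X.presheaf.map (eqToHom (image_morphismRestrict_preimage ψ D ⊤)).op) := inferInstance
    exact @IsIso.of_isIso_comp_right _ _ _ _ _ _ _ h3 h1
  have key : ∀ V : Y.Opens, V = D → IsIso (ψ.app V) → IsIso (ψ.app D) := by
    rintro V rfl h
    exact h
  exact key _ D.ι_image_top h2

/-- A contraction with the local count. -/
theorem field_result {k : Type u} [Field k] [IsAlgClosed k] {X Y : Scheme.{u}} (qX : X ⟶ Spec (CommRingCat.of k))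
    (qY : Y ⟶ Spec (CommRingCat.of k)) [IsProper qX] [IsProper qY] (ψ : X ⟶ Y) (hψ : ψ ≫ qY = qX)
    (hX : @Curv2.AtWorstNodal k _ X ⟨qX⟩) [IsReduced X] [IsReduced Y] [ConnectedSpace X]
    (hdimX : topologicalKrullDim X ≤ 1) (hdimY : topologicalKrullDim Y = 1) (hsurj : Function.Surjective ψ)
    (hconn : ∀ y, _root_.IsPreconnected (ψ ⁻¹' {y})) (H : ContrIso.LocCount k qX ψ) :
    IsOpenImmersion (Scheme.Opens.ι (⟨(closure (exc ψ))ᶜ, isClosed_closure.isOpen_compl⟩ : X.Opens) ≫ ψ) ∧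
      ∀ x ∈ exc ψ,
        Brnch.numBranchesAt Y (ψ x) =
            (connectedComponentIn (exc ψ) x ∩ closure (connectedComponentIn (exc ψ) x)ᶜ).encard ∧
          Curv2.deltaInv (Y.presheaf.stalk (ψ x)) + 1 =
            ((@Curv2.genus k _
                (Scheme.IdealSheafData.vanishingIdeal
                    (⟨closure (connectedComponentIn (exc ψ) x), isClosed_closure⟩ : TopologicalSpace.Closeds X)).subscheme
                ⟨(Scheme.IdealSheafData.vanishingIdeal
                    (⟨closure (connectedComponentIn (exc ψ) x), isClosed_closure⟩ : TopologicalSpace.Closeds X)).subschemeι ≫ qX⟩ : ℕ) : ℕ∞) +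
              Brnch.numBranchesAt Y (ψ x) := by
  have hprop : IsProper ψ := by
    have : IsProper (ψ ≫ qY) := hψ ▸ inferInstance
    exact IsProper.of_comp ψ qY
  have hLN : IsLocallyNoetherian X := LocallyOfFiniteType.isLocallyNoetherian qX
  have hcomp : CompactSpace X := QuasiCompact.compactSpace_of_compactSpace qX
  have hN : IsNoetherian X := { }
  have hNS : NoetherianSpace X := inferInstance
  have hc : Continuous ψ := ψ.continuous
  have hcl : IsClosedMap ψ := ψ.isClosedMap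
  have hEc : IsClosed (exc ψ) := isClosed_exc ψ
  have hYns : ¬ Subsingleton Y := by
    intro hs
    have h1 : topologicalKrullDim Y ≤ 0 := by
      rw [topologicalKrullDim, Order.krullDim_nonpos_iff_forall_isMax]
      intro a b _ y _
      obtain ⟨z, hz⟩ := a.isIrreducible.nonempty
      rw [Subsingleton.elim y z]
      exact hz
    rw [hdimY] at h1
    exact absurd h1 (by decide)
  let D₀ : Y.Opens := ⟨(ψ '' exc ψ)ᶜ, (hcl _ hEc).isOpen_compl⟩
  have hpre : ∀ x : X, ψ x ∈ D₀ ↔ x ∉ exc ψ := by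
    intro x
    constructor
    · intro h hx
      exact h ⟨x, hx, rfl⟩
    · rintro h ⟨e, he, hex⟩
      apply h
      exact fibre_subset_exc hc hcl hdimX hconn he (show ψ x = ψ e from hex.symm)
  have hfinD : ∀ y ∈ D₀, (ψ ⁻¹' {y}).Finite := by
    intro y hy
    refine finite_fibre hc hcl hdimX y ?_
    rw [Set.eq_empty_iff_forall_notMem]
    rintro x ⟨hx, hxE⟩
    exact hy ⟨x, hxE, hx⟩
  have hiso : ∀ D ≤ D₀, IsIso (ψ ∣_ D) := fun D hD =>
    ContrIso.isIso_restrict qX qY ψ hsurj H D (fun y hy => hfinD y (hD hy))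
  constructor
  · have hopen : (⟨(closure (exc ψ))ᶜ, isClosed_closure.isOpen_compl⟩ : X.Opens) = ψ ⁻¹ᵁ D₀ := by
      ext x
      change x ∈ (closure (exc ψ))ᶜ ↔ ψ x ∈ D₀
      rw [hEc.closure_eq, hpre]
      rfl
    rw [hopen, ← morphismRestrict_ι]
    have := hiso D₀ le_rfl
    infer_instance
  · intro x hx
    let p : Y := ψ x
    have hp : IsClosed ({p} : Set Y) := isClosed_image hcl hx
    let Z : Closeds X := ⟨ψ ⁻¹' {p}, hp.preimage hc⟩
    have hZ : (Z : Set X) = ψ ⁻¹' {p} := rfl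
    have hcc : connectedComponentIn (exc ψ) x = (Z : Set X) := connectedComponentIn_exc hc hcl hdimX hconn hx
    have hW : (⟨closure (connectedComponentIn (exc ψ) x), isClosed_closure⟩ : Closeds X) = Z := by
      apply SetLike.coe_injective
      change closure (connectedComponentIn (exc ψ) x) = (Z : Set X)
      rw [hcc]
      exact Z.isClosed.closure_eq
    rw [hW, hcc]
    have hV₀o : IsOpen ((D₀ : Set Y) ∪ {p}) := by
      have h1 : ((D₀ : Set Y) ∪ {p})ᶜ = ⋃ z ∈ (ψ '' exc ψ \ {p}), {z} := by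
        rw [Set.biUnion_of_singleton, Set.compl_union]
        change (ψ '' exc ψ)ᶜᶜ ∩ {p}ᶜ = _
        rw [compl_compl]
        rfl
      rw [← isClosed_compl_iff, h1]
      refine ((finite_image_exc ψ).subset Set.sdiff_subset).isClosed_biUnion ?_
      rintro _ ⟨⟨a, ha, rfl⟩, -⟩
      exact isClosed_image hcl ha
    let V₀ : Y.Opens := ⟨(D₀ : Set Y) ∪ {p}, hV₀o⟩
    have hfinV₀ : ∀ y ∈ V₀, y ≠ p → (ψ ⁻¹' {y}).Finite := by
      intro y hy hyp
      exact hfinD y (Or.resolve_right hy hyp)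
    obtain ⟨V, hV, hpV, hVV₀, hlen⟩ := H p hp V₀ (Or.inr rfl) hfinV₀
    have hgen : ContrLoc.Gen (Z : Set X) := by
      intro t ht ht'
      obtain ⟨⟨z, hz1, hz2, hz3, hz4⟩, ⟨w, hw1, hw2, hw3, hw4⟩⟩ :=
        exists_generizations hc hcl hdimX hconn hx ht ht'
      exact ⟨isClosed_singleton_of_specializes hdimX hz1 hz2, ⟨z, hz1, hz2, hz3, hz4⟩, ⟨w, hw1, hw2, hw3, hw4⟩⟩
    let iX : X.Over (Spec (CommRingCat.of k)) := ⟨qX⟩
    have hpX : IsProper (X ↘ Spec (CommRingCat.of k)) := ‹IsProper qX›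
    refine ContrMain.local_result qY ψ hψ Z p hZ V hV hpV hX hdimY.le hsurj hp hgen ⟨⟨x, rfl⟩, hconn p⟩
      (inter_nonempty hc hcl hsurj hYns hx) (fun y hy hyp => hfinV₀ y (hVV₀ hy) hyp) ?_ hlen
    intro D hD hpD
    refine isIso_app_of_restrict ψ D (hiso D fun y hy => ?_)
    have h1 : y ∈ V₀ := hVV₀ (hD hy)
    refine Or.resolve_right h1 ?_
    rintro rfl
    exact hpD hy

end Groth.Agent.Curv2.K96.ContrField
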