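import Mathlib
import Groth.Agent.S2363
import Groth.Agent.S5166
import Groth.Agent.Ega2.KrullAkizuki

/-!
# Discrete valuation rings with prescribed algebraically closed residue field

* `exists_dvr_of_dim_one`: a one-dimensional Noetherian local domain with algebraically closed residue
  field is dominated by a discrete valuation ring with the same residue field (Krull–Akizuki).
* `exists_dvr`: a geometric point `t` of a locally Noetherian integral scheme `S` lying outside a
  nonempty open `V` is the closed point of a trait `Spec R ⟶ S` with residue field that of `t` and generic point in `V`.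
-/

set_option autoImplicit false
universe u

open CategoryTheory AlgebraicGeometry IsLocalRing

namespace Groth.Agent.Curv2.K96.DvrRes

/-- Domination by a DVR with the same residue field. -/
theorem exists_dvr_of_dim_one (D : Type u) [CommRing D] [IsDomain D] [IsNoetherianRing D] [IsLocalRing D]
    (hD : ringKrullDim D = 1) [IsAlgClosed (ResidueField D)] :
    ∃ (R : Type u) (_ : CommRing R) (_ : IsDomain R) (_ : IsDiscreteValuationRing R) (φ : D →+* R)
      (_ : IsLocalHom φ), Function.Injective φ ∧ Function.Bijective (ResidueField.map φ) := by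
  have hDim1 : Ring.DimensionLEOne D := by
    have : Ring.KrullDimLE 1 D := (Order.krullDimLE_iff 1 (PrimeSpectrum D)).2 hD.le
    refine ⟨fun {p} hp hpp => ?_⟩
    exact Ring.krullDimLE_one_iff_of_noZeroDivisors.1 this p hp hpp
  have hnf : ¬ IsField D := by
    intro h
    have := ringKrullDim_eq_zero_of_isField h
    rw [hD] at this
    exact absurd this (by decide)
  let K := FractionRing D
  let A := integralClosure D K
  have hN : IsNoetherianRing A :=
    Groth.Agent.Ega2.KrullAkizuki.isNoetherianRing D K K (Subtype.val_injective)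
  have hic : IsIntegrallyClosed A := integralClosure.isIntegrallyClosedOfFiniteExtension K
  have hdd : IsDedekindDomain A :=
    { toIsDomain := inferInstance
      toIsNoetherian := hN
      toDimensionLEOne := inferInstance
      toIsIntegralClosure := inferInstance }
  obtain ⟨n, hn, hnm⟩ := Ideal.exists_ideal_over_maximal_of_isIntegral (S := A) (maximalIdeal D)
    (by rw [(RingHom.injective_iff_ker_eq_bot _).1 (FaithfulSMul.algebraMap_injective D A)]; exact bot_le)
  have hnb : n ≠ ⊥ := by
    rintro rfl
    rw [Ideal.comap_bot_of_injective _ (FaithfulSMul.algebraMap_injective D A)] at hnm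
    exact hnf (IsLocalRing.isField_iff_maximalIdeal_eq.2 hnm.symm)
  have := hn.isPrime
  let R := Localization.AtPrime n
  have hR : IsDiscreteValuationRing R := IsLocalization.AtPrime.isDiscreteValuationRing_of_dedekind_domain A hnb R
  let φ : D →+* R := (algebraMap A R).comp (algebraMap D A)
  have hφ : IsLocalHom φ := by
    refine ⟨fun d hd => ?_⟩
    by_contra hdu
    have h1 : d ∈ maximalIdeal D := hdu
    rw [← hnm, Ideal.mem_comap] at h1
    have h2 : φ d ∈ maximalIdeal R := (IsLocalization.AtPrime.to_map_mem_maximal_iff R n _).2 h1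
    exact h2 hd
  refine ⟨R, inferInstance, inferInstance, hR, φ, hφ, ?_, ?_⟩
  · exact (IsLocalization.injective R n.primeCompl_le_nonZeroDivisors).comp (FaithfulSMul.algebraMap_injective D A)
  · apply IsAlgClosed.ringHom_bijective_of_isIntegral
    intro y
    obtain ⟨r, rfl⟩ := IsLocalRing.residue_surjective y
    obtain ⟨a, ha⟩ := (IsLocalization.AtPrime.equivQuotMaximalIdeal n R).surjective (Ideal.Quotient.mk _ r)
    obtain ⟨a, rfl⟩ := Ideal.Quotient.mk_surjective a
    have ha' : residue R (algebraMap A R a) = residue R r := by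
      have h := ha
      simp at h
      exact h
    rw [← ha']
    have hint : IsIntegral D a := Algebra.IsIntegral.isIntegral a
    obtain ⟨p, hp, hpa⟩ := hint
    refine ⟨p.map (residue D), hp.map _, ?_⟩
    rw [Polynomial.eval₂_map]
    have h1 : (ResidueField.map φ).comp (residue D) = ((residue R).comp (algebraMap A R)).comp (algebraMap D A) := by
      ext d
      simp [ResidueField.map_residue, φ]
    rw [h1]
    have h2 := congrArg ((residue R).comp (algebraMap A R)) hpa
    rw [map_zero, Polynomial.hom_eval₂] at h2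
    exact h2

/-- The trait through a geometric point with generic point in a prescribed nonempty open. -/
theorem exists_dvr {S : Scheme.{u}} [IsIntegral S] [IsLocallyNoetherian S] (Ω : Type u) [Field Ω] [IsAlgClosed Ω]
    (t : Spec (CommRingCat.of Ω) ⟶ S) (V : S.Opens) (hV : genericPoint S ∈ V)
    (ht : t (closedPoint Ω) ∉ V) :
    ∃ (R : Type u) (_ : CommRing R) (_ : IsDomain R) (_ : IsDiscreteValuationRing R)
      (g : Spec (CommRingCat.of R) ⟶ S) (σ : Ω →+* ResidueField R), Function.Bijective σ ∧
      Spec.map (CommRingCat.ofHom (residue R)) ≫ g = Spec.map (CommRingCat.ofHom σ) ≫ t ∧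
      g (genericPoint (Spec (CommRingCat.of R))) ∈ V := by
  obtain ⟨⟨x, φ⟩, hxφ⟩ : ∃ p : Σ x, S.residueField x ⟶ .of Ω, Spec.map p.2 ≫ S.fromSpecResidueField p.1 = t :=
    ⟨Scheme.SpecToEquivOfField Ω S t, (Scheme.SpecToEquivOfField Ω S).symm_apply_apply t⟩
  dsimp only at hxφ
  subst hxφ
  have hx : (Spec.map φ ≫ S.fromSpecResidueField x) (closedPoint Ω) = x := by
    exact Scheme.fromSpecResidueField_apply x _
  rw [hx] at ht
  let A : Type u := S.presheaf.stalk x
  let algΩ : Algebra (ResidueField A) Ω := (φ.hom : S.residueField x →+* Ω).toAlgebra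
  obtain ⟨B, _, _, hBn, hBl, hBloc, hBf, e, he⟩ := Groth.Agent.S2363.result (A := A) Ω
  have he' : ∀ a : A, e (Ideal.Quotient.mk _ (algebraMap A B a)) = φ.hom (residue A a) := he
  let φ₂ : B →+* Ω := e.toRingHom.comp (Ideal.Quotient.mk _)
  have hφ₂ : Function.Surjective φ₂ := e.surjective.comp Ideal.Quotient.mk_surjective
  have hker : RingHom.ker φ₂ = maximalIdeal B :=
    IsLocalRing.eq_maximalIdeal (RingHom.ker_isMaximal_of_surjective φ₂ hφ₂)
  let gB : Spec (CommRingCat.of B) ⟶ S := Spec.map (CommRingCat.ofHom (algebraMap A B)) ≫ S.fromSpecStalk x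
  have hgBc : gB (closedPoint B) = x := by
    have h1 : (Spec.map (CommRingCat.ofHom (algebraMap A B))) (closedPoint B) = closedPoint A :=
      IsLocalRing.comap_closedPoint (algebraMap A B)
    change (S.fromSpecStalk x) ((Spec.map (CommRingCat.ofHom (algebraMap A B))) (closedPoint B)) = x
    rw [h1]
    exact Scheme.fromSpecStalk_closedPoint
  obtain ⟨I, hI⟩ := (PrimeSpectrum.isClosed_iff_zeroLocus_ideal _).1 (gB ⁻¹ᵁ V).isOpen.isClosed_compl
  have hmem : ∀ q : PrimeSpectrum B, gB q ∈ V ↔ ¬ I ≤ q.asIdeal := by
    intro q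
    have h1 : q ∈ PrimeSpectrum.zeroLocus (I : Set B) ↔ ¬ gB q ∈ V := by
      rw [← hI]; rfl
    have h2 : q ∈ PrimeSpectrum.zeroLocus (I : Set B) ↔ I ≤ q.asIdeal := Iff.rfl
    tauto
  have hI1 : I ≠ ⊤ := by
    rintro rfl
    have := (hmem (closedPoint B)).2 (fun h => (closedPoint B).2.ne_top (top_le_iff.1 h))
    rw [hgBc] at this
    exact ht this
  have hgen : ∀ q : PrimeSpectrum B, q.asIdeal.comap (algebraMap A B) = ⊥ → gB q ∈ V := by
    intro q hq
    obtain ⟨z, hz⟩ : genericPoint S ∈ Set.range (S.fromSpecStalk x) := by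
      rw [Scheme.range_fromSpecStalk]
      exact genericPoint_specializes x
    have h1 : (Spec.map (CommRingCat.ofHom (algebraMap A B))) q ⤳ z := by
      refine (PrimeSpectrum.le_iff_specializes (PrimeSpectrum.comap (algebraMap A B) q) z).1 ?_
      change q.asIdeal.comap (algebraMap A B) ≤ _
      rw [hq]; exact bot_le
    have h2 : gB q ⤳ genericPoint S := by
      rw [← hz]
      exact h1.map (S.fromSpecStalk x).continuous
    exact h2.mem_open V.isOpen hV
  have hmin : ∀ q ∈ minimalPrimes B, ¬ I ≤ q := by
    intro q hq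
    have hqp : q.IsPrime := hq.1.1
    refine (hmem ⟨q, hqp⟩).1 (hgen ⟨q, hqp⟩ ?_)
    rw [eq_bot_iff]
    intro a ha
    by_contra ha0
    have h1 : algebraMap A B a ∈ nonZeroDivisors B := by
      have h2 : IsSMulRegular A a := (IsRegular.of_ne_zero (fun h => ha0 (by simp [h]))).left.isSMulRegular
      have h3 := h2.of_flat (S := B)
      rw [mem_nonZeroDivisors_iff_right]
      intro z hz
      apply h3
      simp only [smul_zero]
      rw [Algebra.smul_def, mul_comm]
      exact hz
    exact Set.disjoint_left.1 (Ideal.disjoint_nonZeroDivisors_of_mem_minimalPrimes hq) ha h1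
  obtain ⟨p, hpI, hpdim⟩ := Groth.Agent.S5166.result B I hI1 hmin
  have hpm : p.asIdeal ≤ RingHom.ker φ₂ := hker ▸ IsLocalRing.le_maximalIdeal p.2.ne_top
  let D := B ⧸ p.asIdeal
  let φD : D →+* Ω := Ideal.Quotient.lift p.asIdeal φ₂ hpm
  have hφD : Function.Surjective φD := Ideal.Quotient.lift_surjective_of_surjective _ _ hφ₂
  have hDl : IsLocalRing D := IsLocalRing.of_surjective' (Ideal.Quotient.mk p.asIdeal) Ideal.Quotient.mk_surjective
  have hkerD : RingHom.ker φD = maximalIdeal D :=
    IsLocalRing.eq_maximalIdeal (RingHom.ker_isMaximal_of_surjective φD hφD)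
  have hφDl : IsLocalHom φD := by
    refine ⟨fun d hd => ?_⟩
    by_contra hdu
    have : d ∈ RingHom.ker φD := hkerD ▸ hdu
    rw [RingHom.mem_ker] at this
    rw [this] at hd
    exact not_isUnit_zero hd
  have hbij : Function.Bijective (ResidueField.lift φD) := by
    refine ⟨RingHom.injective _, fun w => ?_⟩
    obtain ⟨d, rfl⟩ := hφD w
    exact ⟨residue D d, ResidueField.lift_residue_apply φD d⟩
  let eD : ResidueField D ≃+* Ω := RingEquiv.ofBijective _ hbij
  have hac : IsAlgClosed (ResidueField D) := IsAlgClosed.of_ringEquiv Ω _ eD.symm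
  obtain ⟨R, _, _, hR, ψ, hψ, hψi, hψb⟩ := exists_dvr_of_dim_one D hpdim
  let g : Spec (CommRingCat.of R) ⟶ S := Spec.map (CommRingCat.ofHom ψ) ≫
    Spec.map (CommRingCat.ofHom (Ideal.Quotient.mk p.asIdeal)) ≫ gB
  refine ⟨R, inferInstance, inferInstance, hR, g, (ResidueField.map ψ).comp eD.symm.toRingHom,
    hψb.comp eD.symm.bijective, ?_, ?_⟩
  · have key : CommRingCat.ofHom (algebraMap A B) ≫ CommRingCat.ofHom (Ideal.Quotient.mk p.asIdeal) ≫
        CommRingCat.ofHom ψ ≫ CommRingCat.ofHom (residue R) = CommRingCat.ofHom (residue A) ≫ φ ≫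
          CommRingCat.ofHom ((ResidueField.map ψ).comp eD.symm.toRingHom) := by
      apply CommRingCat.hom_ext
      ext a
      change residue R (ψ (Ideal.Quotient.mk _ (algebraMap A B a))) =
        ResidueField.map ψ (eD.symm (φ.hom (residue A a)))
      have h2 : φ.hom (residue A a) = eD (residue D (Ideal.Quotient.mk _ (algebraMap A B a))) := by
        rw [← he']
        rfl
      rw [h2, RingEquiv.symm_apply_apply, ResidueField.map_residue]
    have h3 := congrArg (fun f => Spec.map f ≫ S.fromSpecStalk x) key
    simp only [Spec.map_comp, Category.assoc] at h3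
    refine h3.trans ?_
    have h4 := Spec.map_comp φ (CommRingCat.ofHom ((ResidueField.map ψ).comp eD.symm.toRingHom))
    first
      | exact (congrArg (fun f => f ≫ S.fromSpecResidueField x) h4).trans (Category.assoc _ _ _)
      | rfl
  · have h1 : g (genericPoint (Spec (CommRingCat.of R))) = gB p := by
      have hbot : genericPoint (Spec (CommRingCat.of R)) = (⊥ : PrimeSpectrum R) :=
        genericPoint_eq_bot_of_affine (CommRingCat.of R)
      rw [hbot]
      have h2 : PrimeSpectrum.comap (Ideal.Quotient.mk p.asIdeal) (PrimeSpectrum.comap ψ ⊥) = p := by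
        apply PrimeSpectrum.ext
        ext b
        change ψ (Ideal.Quotient.mk _ b) ∈ (⊥ : Ideal R) ↔ b ∈ p.asIdeal
        rw [Ideal.mem_bot, map_eq_zero_iff ψ hψi, Ideal.Quotient.eq_zero_iff_mem]
      exact congrArg gB h2
    rw [h1]
    exact (hmem p).2 hpI

end Groth.Agent.Curv2.K96.DvrRes
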