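import Groth.Agent.Curv2.K96.ContrLift
import Groth.Agent.Curv2.K96.DvrRes

/-!
# The geometric fibres of a birational morphism of families of curves
-/

set_option autoImplicit false
universe u

open CategoryTheory CategoryTheory.Limits AlgebraicGeometry Opposite TopologicalSpace

namespace Groth.Agent.Curv2.K96.ContrGeo

open Groth.Agent ContrFam ContrBase

theorem locCount_of_isIso {k : Type u} [Field k] {X Y : Scheme.{u}} (q : X ⟶ Spec (CommRingCat.of k)) (ψ : X ⟶ Y)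
    [IsIso ψ] : ContrIso.LocCount k q ψ := by
  intro p hp V₀ hpV₀ _
  obtain ⟨V, hV, hpV, hVV₀⟩ := exists_isAffineOpen_mem_and_subset hpV₀
  refine ⟨V, hV, hpV, hVV₀, ?_⟩
  let _ : Algebra Γ(Y, V) Γ(X, ψ ⁻¹ᵁ V) := (ψ.app V).hom.toAlgebra
  let _ : (ψ ⁻¹ᵁ V).toScheme.Over (Spec (CommRingCat.of k)) := ⟨(ψ ⁻¹ᵁ V).ι ≫ q⟩
  have : IsAffine (ψ ⁻¹ᵁ V).toScheme := hV.preimage ψ
  have hqc : Coh.IsQCoh (Coh.structureModule (ψ ⁻¹ᵁ V).toScheme) := Ega2.QCohLocal.isQCoh_structureModule _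
  have h1 : Subsingleton (Coh.HH (ψ ⁻¹ᵁ V).toScheme (Coh.structureModule _) 1) :=
    Groth.Agent.CohqA.AffineVanish.HH_subsingleton _ _ 1 one_pos
  have h2 : Module.length k (Coh.HH (ψ ⁻¹ᵁ V).toScheme (Coh.structureModule _) 1) = 0 := Module.length_eq_zero
  have h3 : Module.length Γ(Y, V) (Γ(X, ψ ⁻¹ᵁ V) ⧸ LinearMap.range (Algebra.linearMap Γ(Y, V) Γ(X, ψ ⁻¹ᵁ V))) = 0 := by
    rw [Module.length_eq_zero_iff, Submodule.Quotient.subsingleton_iff, LinearMap.range_eq_top]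
    exact (ConcreteCategory.bijective_of_isIso (ψ.app V)).2
  exact ⟨h3.trans h2.symm, by rw [h2]; exact ENat.zero_ne_top⟩

section

variable (S X Y : Scheme.{u}) [IsIntegral S]
    [IsNoetherian S] (hS : Pi1.IsNormalScheme S) (π₁ : X ⟶ S) (π₂ : Y ⟶ S)
    [Flat π₁] [IsProper π₁] [LocallyOfFinitePresentation π₁] [GeometricallyReduced π₁] [GeometricallyConnected π₁]
    [Flat π₂] [IsProper π₂] [LocallyOfFinitePresentation π₂] [GeometricallyReduced π₂] [GeometricallyConnected π₂]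
    (hdim₁ : ∀ s : ↥S, topologicalKrullDim ↥(π₁.fiber s) = 1) (hdim₂ : ∀ s : ↥S, topologicalKrullDim ↥(π₂.fiber s) = 1)
    (hsm₁ : Smooth (π₁.fiberToSpecResidueField (genericPoint ↥S)))
    (hsm₂ : Smooth (π₂.fiberToSpecResidueField (genericPoint ↥S)))
    (φ : X ⟶ Y) (hφ : φ ≫ π₂ = π₁) (hbir : ∃ U : Y.Opens, Dense (U : Set ↥Y) ∧ IsIso (φ ∣_ U))
    (Ω : Type u) [Field Ω] [IsAlgClosed Ω] (t : Spec (CommRingCat.of Ω) ⟶ S)
    (Xt Yt : Scheme.{u}) (iX : Xt ⟶ X) (qX : Xt ⟶ Spec (CommRingCat.of Ω)) (iY : Yt ⟶ Y)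
    (qY : Yt ⟶ Spec (CommRingCat.of Ω)) (hXt : IsPullback iX qX π₁ t) (hYt : IsPullback iY qY π₂ t)
    (φt : Xt ⟶ Yt) (hφt₁ : φt ≫ iY = iX ≫ φ) (hφt₂ : φt ≫ qY = qX)

include hS hdim₁ hdim₂ hsm₁ hsm₂ hφ hbir hXt hYt hφt₁ hφt₂ in
theorem part_one : Function.Surjective φt ∧ (∀ y : Yt, _root_.IsPreconnected (φt ⁻¹' {y})) ∧
    ContrIso.LocCount Ω qX φt := by
  obtain ⟨V₁, hV₁, hsmV₁⟩ := exists_open_smooth π₁ (genericPoint S) hsm₁
  obtain ⟨V₂, hV₂, hsmV₂⟩ := exists_open_smooth π₂ (genericPoint S) hsm₂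
  obtain ⟨V₃, hV₃, hisoV₃⟩ := exists_open_iso S X Y hS π₁ π₂ hdim₁ hdim₂ hsm₁ hsm₂ φ hφ hbir
  let V : S.Opens := V₁ ⊓ V₂ ⊓ V₃
  have hV : genericPoint S ∈ V := ⟨⟨hV₁, hV₂⟩, hV₃⟩
  have hres : ∀ (W : S.Opens), V ≤ W → ∀ {Z : Scheme.{u}} (P : MorphismProperty Scheme.{u})
      [P.IsStableUnderBaseChange] (f : Z ⟶ S) (_ : P (f ∣_ W)), P (f ∣_ V) := by
    intro W hW Z P _ f h
    exact prop_of_range P f W h V.ι (fun x => hW x.2) (isPullback_morphismRestrict f V).flip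
  by_cases ht : t (IsLocalRing.closedPoint Ω) ∈ V
  · have hiso : IsIso φt := by
      refine prop_of_range (MorphismProperty.isomorphisms Scheme.{u}) φ (π₂ ⁻¹ᵁ V₃) hisoV₃ iY (fun y => ?_)
        (isPullback_total hφ hXt hYt hφt₁ hφt₂)
      change π₂ (iY y) ∈ V₃
      have h4 : π₂ (iY y) = t (qY y) := by
        rw [← Scheme.Hom.comp_apply, hYt.w, Scheme.Hom.comp_apply]
      have h5 : qY y = IsLocalRing.closedPoint Ω := Subsingleton.elim (α := PrimeSpectrum Ω) _ _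
      rw [h4, h5]
      exact ht.2
    refine ⟨φt.homeomorph.surjective, fun y => ?_, locCount_of_isIso qX φt⟩
    refine Set.Subsingleton.isPreconnected ?_
    intro a ha b hb
    exact φt.homeomorph.injective ((show φt a = y from ha).trans (show φt b = y from hb).symm)
  · obtain ⟨R, _, _, _, g, σ, hσ, hgt, hgV⟩ := DvrRes.exists_dvr Ω t V hV ht
    let σe : Ω ≃+* IsLocalRing.ResidueField R := RingEquiv.ofBijective σ hσ
    let ρ : R →+* Ω := σe.symm.toRingHom.comp (IsLocalRing.residue R)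
    have hρ : Function.Surjective ρ := σe.symm.surjective.comp IsLocalRing.residue_surjective
    have hρt : Spec.map (CommRingCat.ofHom ρ) ≫ g = t := by
      have h1 : CommRingCat.ofHom ρ =
          CommRingCat.ofHom (IsLocalRing.residue R) ≫ CommRingCat.ofHom σe.symm.toRingHom := rfl
      rw [h1, Spec.map_comp, Category.assoc, hgt, ← Category.assoc, ← Spec.map_comp]
      have h2 : CommRingCat.ofHom σ ≫ CommRingCat.ofHom σe.symm.toRingHom = 𝟙 _ := by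
        apply CommRingCat.hom_ext
        ext c
        exact σe.symm_apply_apply c
      rw [h2, Spec.map_id, Category.id_comp]
    subst hρt
    let X' := pullback π₁ g
    let Y' := pullback π₂ g
    let a : X' ⟶ X := pullback.fst π₁ g
    let f₁ : X' ⟶ Spec (CommRingCat.of R) := pullback.snd π₁ g
    have h₁ : IsPullback a f₁ π₁ g := IsPullback.of_hasPullback _ _
    let b : Y' ⟶ Y := pullback.fst π₂ g
    let f₂ : Y' ⟶ Spec (CommRingCat.of R) := pullback.snd π₂ g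
    have h₂ : IsPullback b f₂ π₂ g := IsPullback.of_hasPullback _ _
    let φ' : X' ⟶ Y' := h₂.lift (a ≫ φ) f₁ (by rw [Category.assoc, hφ, h₁.w])
    have e₁ : φ' ≫ b = a ≫ φ := h₂.lift_fst _ _ _
    have e₂ : φ' ≫ f₂ = f₁ := h₂.lift_snd _ _ _
    let jX : Xt ⟶ X' := h₁.lift iX (qX ≫ Spec.map (CommRingCat.ofHom ρ)) (by rw [hXt.w, Category.assoc])
    have hjX1 : jX ≫ a = iX := h₁.lift_fst _ _ _
    have hjX2 : jX ≫ f₁ = qX ≫ Spec.map (CommRingCat.ofHom ρ) := h₁.lift_snd _ _ _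
    let jY : Yt ⟶ Y' := h₂.lift iY (qY ≫ Spec.map (CommRingCat.ofHom ρ)) (by rw [hYt.w, Category.assoc])
    have hjY1 : jY ≫ b = iY := h₂.lift_fst _ _ _
    have hjY2 : jY ≫ f₂ = qY ≫ Spec.map (CommRingCat.ofHom ρ) := h₂.lift_snd _ _ _
    have hX' : IsPullback jX qX f₁ (Spec.map (CommRingCat.ofHom ρ)) :=
      IsPullback.of_right (hjX1.symm ▸ hXt) hjX2 h₁
    have hY' : IsPullback jY qY f₂ (Spec.map (CommRingCat.ofHom ρ)) :=
      IsPullback.of_right (hjY1.symm ▸ hYt) hjY2 h₂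
    have e₃ : φt ≫ jY = jX ≫ φ' := by
      apply h₂.hom_ext
      · rw [Category.assoc, Category.assoc, hjY1, e₁, hφt₁, reassoc_of% hjX1]
      · rw [Category.assoc, Category.assoc, hjY2, e₂, hjX2, reassoc_of% hφt₂]
    have i2 : IsProper f₁ := MorphismProperty.of_isPullback h₁ inferInstance
    have i1 : Flat f₁ := MorphismProperty.of_isPullback h₁ inferInstance
    have j2 : IsProper f₂ := MorphismProperty.of_isPullback h₂ inferInstance
    have hprop : IsProper φ' := by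
      have : IsProper (φ' ≫ f₂) := e₂ ▸ inferInstance
      exact IsProper.of_comp φ' f₂
    have hLN : IsLocallyNoetherian Y' := LocallyOfFiniteType.isLocallyNoetherian f₂
    have hisoV : IsIso (φ ∣_ (π₂ ⁻¹ᵁ V)) :=
      prop_of_range (MorphismProperty.isomorphisms Scheme.{u}) φ (π₂ ⁻¹ᵁ V₃) hisoV₃ (π₂ ⁻¹ᵁ V).ι
        (fun x => x.2.2) (isPullback_morphismRestrict φ (π₂ ⁻¹ᵁ V)).flip
    obtain ⟨happ, hfin⟩ := over_dvr S X Y π₁ π₂ hdim₁ hdim₂ φ hφ V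
      (hres V₁ (fun x hx => hx.1.1) @Smooth π₁ hsmV₁) (hres V₂ (fun x hx => hx.1.2) @Smooth π₂ hsmV₂) hisoV R g hgV
      a f₁ h₁ b f₂ h₂ φ' e₁ e₂
    have hconn := fun y => ContrLift.fibre_conn ρ f₁ f₂ φ' e₂ happ jX qX hX' jY qY hY' φt e₃ hφt₂ hρ y
    refine ⟨fun y => ?_, fun y => (hconn y).1, ?_⟩
    · obtain ⟨x, hx⟩ := (hconn y).2
      exact ⟨x, hx⟩
    · refine ContrLift.locCount ρ hρ f₁ f₂ φ' e₂ happ hfin (fun s => ?_) jX qX hX' jY qY hY' φt e₃ hφt₂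
      rw [Flat2G.ProperDim.topologicalKrullDim_fiber_baseChange π₁ f₁ a g h₁ s]
      exact (hdim₁ _).le

end

end Groth.Agent.Curv2.K96.ContrGeo
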