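import Groth.Agent.Curv2.K96.ContrCount
import Groth.Agent.CurvSt.K896.ConH
import Groth.Agent.Pinch.K838.FerrBC
import Groth.Agent.VarietyB.HHPush
import Groth.Agent.FormalB.HHLes

/-!
# The first cohomology of a neighbourhood of an exceptional fibre
-/

set_option autoImplicit false
universe u

open CategoryTheory CategoryTheory.Limits AlgebraicGeometry Opposite TopologicalSpace

namespace Groth.Agent.Curv2.K96.ContrH1

open Groth.Agent ContrLoc ContrCount K838.Ferr Scheme.IdealSheafData Groth.Agent.FormalB.HHLes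
  Groth.Agent.FormalA.HHLin

/-- A morphism into an open subscheme which is a restriction. -/
theorem isPullback_lift {A X : Scheme.{u}} (U : X.Opens) (f : A ⟶ X) (f' : A ⟶ U.toScheme) (h : f' ≫ U.ι = f) :
    IsPullback (𝟙 A) f' f U.ι := by
  refine ⟨⟨by rw [Category.id_comp, h]⟩, ⟨PullbackCone.IsLimit.mk _ (fun s => s.fst) (fun s => Category.comp_id _)
    (fun s => ?_) (fun s m h1 h2 => ?_)⟩⟩
  · rw [← cancel_mono U.ι, Category.assoc, h, s.condition]
  · rw [← h1, Category.comp_id]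

variable {k : Type u} [Field k] {X : Scheme.{u}}

/-- The Ferrand square over an open neighbourhood of `Z`. -/
theorem isFerr_open [IsReduced X] (Z : Closeds X) (U : X.Opens) (hZU : (Z : Set X) ⊆ U)
    (β : (II Z).subscheme ⟶ U.toScheme) (hβ : β ≫ U.ι = (II Z).subschemeι) :
    ∃ i : (II Z ⊔ JJ Z).subscheme ⟶ ((JJ Z).subschemeι ⁻¹ᵁ U).toScheme,
      IsFerr i (iZ Z) ((JJ Z).subschemeι ∣_ U) β := by
  have hr : Set.range (iT Z) ⊆ Set.range ((JJ Z).subschemeι ⁻¹ᵁ U).ι := by
    rw [Scheme.Opens.range_ι]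
    rintro _ ⟨t, rfl⟩
    exact hZU (mem_T Z t).1
  let i : (II Z ⊔ JJ Z).subscheme ⟶ ((JJ Z).subschemeι ⁻¹ᵁ U).toScheme :=
    IsOpenImmersion.lift ((JJ Z).subschemeι ⁻¹ᵁ U).ι (iT Z) hr
  have hi : i ≫ ((JJ Z).subschemeι ⁻¹ᵁ U).ι = iT Z := IsOpenImmersion.lift_fac _ _ _
  have hF := isFerr Z
  have hcl := hF.closed
  have hX : IsPullback ((JJ Z).subschemeι ⁻¹ᵁ U).ι ((JJ Z).subschemeι ∣_ U) (JJ Z).subschemeι U.ι :=
    (isPullback_morphismRestrict (JJ Z).subschemeι U).flip
  have hY := isPullback_lift U (II Z).subschemeι β hβ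
  have hZ := isPullback_lift ((JJ Z).subschemeι ⁻¹ᵁ U) (iT Z) i hi
  have hw : i ≫ ((JJ Z).subschemeι ∣_ U) = iZ Z ≫ β := by
    rw [← cancel_mono U.ι, Category.assoc, Category.assoc, morphismRestrict_ι, ← Category.assoc, hi, hβ]
    exact hF.w
  have hW : IsPullback U.ι (𝟙 U.toScheme) (𝟙 X) U.ι := IsPullback.of_vert_isIso ⟨by simp⟩
  have hpo : IsPushout i (iZ Z) ((JJ Z).subschemeι ∣_ U) β :=
    K838.FerrBC.isPushout_flat_baseChange hF hW hX hY hZ (by simp) hw
  have h1 : IsClosedImmersion i := MorphismProperty.of_isPullback hZ hcl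
  have h2 : IsAffineHom β := MorphismProperty.of_isPullback hY inferInstance
  exact ⟨i, isFerr_of_isPushout hpo⟩

/-- The first cohomology of the structure sheaf near `Z` is that of `Z`, if the rest is affine. -/
theorem h1_eq [X.Over (Spec (CommRingCat.of k))] [IsReduced X] (Z : Closeds X) (U : X.Opens) (hZU : (Z : Set X) ⊆ U)
    (haff : IsAffineOpen ((JJ Z).subschemeι ⁻¹ᵁ U)) :
    letI : U.toScheme.Over (Spec (CommRingCat.of k)) := ⟨U.ι ≫ (X ↘ Spec (CommRingCat.of k))⟩
    letI : (II Z).subscheme.Over (Spec (CommRingCat.of k)) := ⟨(II Z).subschemeι ≫ (X ↘ Spec (CommRingCat.of k))⟩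
    Module.length k (Coh.HH U.toScheme (Coh.structureModule _) 1) =
      Module.length k (Coh.HH (II Z).subscheme (Coh.structureModule _) 1) := by
  let o1 : U.toScheme.Over (Spec (CommRingCat.of k)) := ⟨U.ι ≫ (X ↘ Spec (CommRingCat.of k))⟩
  let o2 : (II Z).subscheme.Over (Spec (CommRingCat.of k)) := ⟨(II Z).subschemeι ≫ (X ↘ Spec (CommRingCat.of k))⟩
  have hr : Set.range (II Z).subschemeι ⊆ Set.range U.ι := by
    rw [Scheme.Opens.range_ι]
    rintro _ ⟨t, rfl⟩
    exact hZU (mem_Z Z t)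
  let β : (II Z).subscheme ⟶ U.toScheme := IsOpenImmersion.lift U.ι (II Z).subschemeι hr
  have hβ : β ≫ U.ι = (II Z).subschemeι := IsOpenImmersion.lift_fac _ _ _
  obtain ⟨i, h⟩ := isFerr_open Z U hZU β hβ
  have hβc : IsClosedImmersion β := by
    have : IsClosedImmersion (β ≫ U.ι) := by rw [hβ]; infer_instance
    exact IsClosedImmersion.of_comp β U.ι
  have hαc : IsClosedImmersion ((JJ Z).subschemeι ∣_ U) := inferInstance
  have hX' : IsAffine ((JJ Z).subschemeι ⁻¹ᵁ U).toScheme := haff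
  have hi := h.closed
  have hT : IsAffine (II Z ⊔ JJ Z).subscheme := isAffine_of_isAffineHom i
  have hQ : ∀ Z : Scheme.{u}, Coh.IsQCoh (Coh.structureModule Z) := fun Z => Ega2.QCohLocal.isQCoh_structureModule Z
  have hQ1 := hQ ((JJ Z).subschemeι ⁻¹ᵁ U).toScheme
  have hQ2 := hQ (II Z ⊔ JJ Z).subscheme
  have hQ3 : Coh.IsQCoh ((Coh.push i).obj (Coh.structureModule (II Z ⊔ JJ Z).subscheme)) :=
    CohqA.AffPush.isQCoh_push i _ hQ2
  have h1 : ∀ q : ℕ, Subsingleton (Coh.HH U.toScheme (K896.ConH.S₂ h.w).X₁ (q + 1)) := by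
    intro q
    refine K896.ConH.subsingleton_X₁ (K896.ConH.shortExact₂ h) q ?_ ?_
    · obtain ⟨e⟩ := S0012.result ((JJ Z).subschemeι ∣_ U) (Coh.structureModule _) (q + 1)
      have := CohqA.AffineVanish.HH_subsingleton _ (Coh.structureModule ((JJ Z).subschemeι ⁻¹ᵁ U).toScheme) (q + 1)
        (Nat.succ_pos q)
      exact e.symm.toEquiv.subsingleton
    · cases q with
      | zero =>
        refine K896.ConH.hmap_zero_surjective _ ?_
        exact K896.ConH.g_surjective_of_affine (α := (JJ Z).subschemeι ∣_ U) i ⊤ (isAffineOpen_top _)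
      | succ q =>
        have h2 : Subsingleton (Coh.HH U.toScheme (K896.ConH.S₂ h.w).X₃ (q + 1)) := by
          obtain ⟨e⟩ := S0012.result ((JJ Z).subschemeι ∣_ U) ((Coh.push i).obj (Coh.structureModule _)) (q + 1)
          have := CohqA.AffineVanish.HH_subsingleton _ ((Coh.push i).obj (Coh.structureModule _)) (q + 1)
            (Nat.succ_pos q)
          exact e.symm.toEquiv.subsingleton
        intro y
        exact ⟨0, Subsingleton.elim _ _⟩
  have hS := K896.ConH.shortExact₁ (β := β)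
  have hinj : Function.Injective (HHmap k (ClSub.unitToPush β) 1) := by
    rw [injective_iff_map_eq_zero]
    intro x hx
    obtain ⟨y, rfl⟩ := (exact_map_map k hS 1 x).1 hx
    have hy : y = (0 : Coh.HH U.toScheme (K896.ConH.S₁ β).X₁ 1) :=
      @Subsingleton.elim (Coh.HH U.toScheme (K896.ConH.S₂ h.w).X₁ (0 + 1)) (h1 0) y _
    rw [hy]
    exact map_zero _
  have hsurj : Function.Surjective (HHmap k (ClSub.unitToPush β) 1) := by
    intro y
    have := h1 1
    exact (exact_map_δ k hS 1 y).1 (Subsingleton.elim (α := Coh.HH U.toScheme (K896.ConH.S₂ h.w).X₁ (1 + 1)) _ _)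
  have e1 := (LinearEquiv.ofBijective (HHmap k (ClSub.unitToPush β) 1) ⟨hinj, hsurj⟩).length_eq
  have hβo : β ≫ (U.toScheme ↘ Spec (CommRingCat.of k)) = (II Z).subscheme ↘ Spec (CommRingCat.of k) := by
    change β ≫ U.ι ≫ _ = _
    rw [← Category.assoc, hβ]
    rfl
  obtain ⟨e2⟩ := Groth.Agent.VarietyB.HHPush.exists_linearEquiv β k hβo (Coh.structureModule (II Z).subscheme)
    (hQ _) 1
  exact e1.trans e2.length_eq

end Groth.Agent.Curv2.K96.ContrH1
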