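import Groth.Agent.Curv2.K96.ContrDvr
import Groth.Agent.Curv2.K96.ContrBase
import Groth.Agent.S2431
import Groth.Agent.FlatA.FibreDim
import Groth.Agent.Models.H74.EvIdeal

/-!
# The special fibre of a birational morphism of families of curves over a discrete valuation ring
-/

set_option autoImplicit false
universe u

open CategoryTheory CategoryTheory.Limits AlgebraicGeometry Opposite TopologicalSpace

namespace Groth.Agent.Curv2.K96.ContrLift

open Groth.Agent SpecCount Groth.Agent.Models.H74.EvIdeal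

theorem length_transfer_aux {B P M N : Type*} [CommRing B] [CommRing P] [CommRing M] [CommRing N] [Algebra P M]
    [Algebra B N] (a : B →+* P) (ha : Function.Surjective a) (ε : N ≃+* M)
    (h : ∀ b, ε (algebraMap B N b) = algebraMap P M (a b)) :
    Module.length B (N ⧸ LinearMap.range (Algebra.linearMap B N)) =
      Module.length P (M ⧸ LinearMap.range (Algebra.linearMap P M)) := by
  let N1 := LinearMap.range (Algebra.linearMap B N)
  let N2 := LinearMap.range (Algebra.linearMap P M)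
  have hN : N1.toAddSubgroup.map ε.toAddEquiv.toAddMonoidHom = N2.toAddSubgroup := by
    ext y
    constructor
    · rintro ⟨_, ⟨x, rfl⟩, rfl⟩
      exact ⟨a x, (h x).symm⟩
    · rintro ⟨x, rfl⟩
      obtain ⟨x, rfl⟩ := ha x
      exact ⟨algebraMap B N x, ⟨x, rfl⟩, h x⟩
  let e : (N ⧸ N1) ≃+ (M ⧸ N2) :=
    QuotientAddGroup.congr N1.toAddSubgroup N2.toAddSubgroup ε.toAddEquiv hN
  refine length_eq_of_semilinear a ha e ?_
  intro b x
  obtain ⟨x, rfl⟩ := Submodule.Quotient.mk_surjective _ x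
  change Submodule.Quotient.mk (ε (b • x)) = a b • (Submodule.Quotient.mk (ε x) : M ⧸ N2)
  rw [← Submodule.Quotient.mk_smul, Algebra.smul_def, map_mul, h, ← Algebra.smul_def]

theorem length_transfer {B P Q M N : Type*} [CommRing B] [CommRing P] [CommRing Q] [CommRing M] [CommRing N]
    [Algebra P M] [Algebra Q N] (a : B →+* P) (ha : Function.Surjective a) (b : B →+* Q)
    (hb : Function.Surjective b) (ε : N ≃+* M) (h : ∀ x, ε (algebraMap Q N (b x)) = algebraMap P M (a x)) :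
    Module.length Q (N ⧸ LinearMap.range (Algebra.linearMap Q N)) =
      Module.length P (M ⧸ LinearMap.range (Algebra.linearMap P M)) := by
  let _ : Algebra B N := ((algebraMap Q N).comp b).toAlgebra
  rw [← length_transfer_aux a ha ε h, ← length_transfer_aux b hb (RingEquiv.refl N) (fun _ => rfl)]

section Str

variable {A : Type u} [CommRing A] {X Y : Scheme.{u}}

/-- The structure map on sections over an open set. -/
noncomputable def strR (f : X ⟶ Spec (CommRingCat.of A)) (V : X.Opens) : A →+* Γ(X, V) :=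
  (X.presheaf.map (homOfLE (le_top (a := V))).op).hom.comp (Coh.toGlobal f)

theorem app_strR (g : Y ⟶ X) (f : X ⟶ Spec (CommRingCat.of A)) (V : X.Opens) (c : A) :
    g.app V (strR f V c) = strR (g ≫ f) (g ⁻¹ᵁ V) c := by
  have h1 : g.app V (X.presheaf.map (homOfLE (le_top (a := V))).op (Coh.toGlobal f c)) =
      Y.presheaf.map ((Opens.map g.base).map (homOfLE (le_top (a := V)))).op
        (g.app ⊤ (Coh.toGlobal f c)) :=
    congr($(g.naturality (homOfLE (le_top (a := V))).op) (Coh.toGlobal f c))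
  refine h1.trans ?_
  have h2 : g.app ⊤ (Coh.toGlobal f c) = Coh.toGlobal (g ≫ f) c := by
    change g.appTop (f.appTop ((Scheme.ΓSpecIso (CommRingCat.of A)).inv c)) =
      (g ≫ f).appTop ((Scheme.ΓSpecIso (CommRingCat.of A)).inv c)
    rw [Scheme.Hom.comp_appTop]
    rfl
  rw [h2]
  rfl

theorem fromSpec_comp (f : X ⟶ Spec (CommRingCat.of A)) (W : X.Opens) (hW : IsAffineOpen W) :
    hW.fromSpec ≫ f = Spec.map (CommRingCat.ofHom (strR f W)) := by
  apply ext_of_isAffine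
  rw [Scheme.Hom.comp_appTop]
  rw [← cancel_epi (Scheme.ΓSpecIso (CommRingCat.of A)).inv]
  rw [← Scheme.ΓSpecIso_inv_naturality]
  have h1 : hW.fromSpec.appTop = X.presheaf.map (homOfLE le_top).op ≫ (Scheme.ΓSpecIso Γ(X, W)).inv := by
    change hW.fromSpec.app ⊤ = _
    rw [hW.fromSpec_app_of_le ⊤ le_top]
    have h2 : (Spec Γ(X, W)).presheaf.map (homOfLE (le_top (a := hW.fromSpec ⁻¹ᵁ ⊤))).op = 𝟙 _ :=
      (Spec Γ(X, W)).presheaf.map_id _
    exact congrArg (X.presheaf.map (homOfLE (le_top (a := W))).op ≫ ·)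
      ((congrArg ((Scheme.ΓSpecIso Γ(X, W)).inv ≫ ·) h2).trans (Category.comp_id _))
  rw [h1]
  rfl

end Str

section

variable {R : Type u} [CommRing R] {k : Type u} [Field k]
  (ρ : R →+* k) {X' Y' Xt Yt : Scheme.{u}}
  (f₁ : X' ⟶ Spec (CommRingCat.of R)) (f₂ : Y' ⟶ Spec (CommRingCat.of R))
  (φ' : X' ⟶ Y') (hφ' : φ' ≫ f₂ = f₁) (happ : ∀ W : Y'.Opens, IsIso (φ'.app W))
  (iX : Xt ⟶ X') (qX : Xt ⟶ Spec (CommRingCat.of k)) (hX : IsPullback iX qX f₁ (Spec.map (CommRingCat.ofHom ρ)))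
  (iY : Yt ⟶ Y') (qY : Yt ⟶ Spec (CommRingCat.of k)) (hY : IsPullback iY qY f₂ (Spec.map (CommRingCat.ofHom ρ)))
  (φt : Xt ⟶ Yt) (e₁ : φt ≫ iY = iX ≫ φ') (e₂ : φt ≫ qY = qX)

include hφ' hX hY e₁ e₂ in
theorem image_fibre (y : Yt) : iX '' (φt ⁻¹' {y}) = φ' ⁻¹' {iY y} := by
  have h := ContrBase.isPullback_total hφ' hX hY e₁ e₂
  ext x
  constructor
  · rintro ⟨z, hz, rfl⟩
    change φ' (iX z) = iY y
    rw [← Scheme.Hom.comp_apply, ← e₁, Scheme.Hom.comp_apply, show φt z = y from hz]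
  · intro hx
    obtain ⟨z, hz1, hz2⟩ := Scheme.exists_preimage_of_isPullback h x y hx
    exact ⟨z, hz2, hz1⟩

include happ in
theorem isPreconnected_fibre' [IsProper φ'] [IsLocallyNoetherian Y'] (y : Y') :
    _root_.IsPreconnected (φ' ⁻¹' {y}) ∧ (φ' ⁻¹' {y}).Nonempty := by
  have h := (S2431.result φ' happ).1 y
  rw [← φ'.range_fiberι]
  exact ⟨isPreconnected_range (φ'.fiberι y).continuous, Set.range_nonempty _⟩

include hφ' happ hX hY e₁ e₂ in
theorem fibre_conn [IsProper φ'] [IsLocallyNoetherian Y'] (hρ : Function.Surjective ρ) (y : Yt) :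
    _root_.IsPreconnected (φt ⁻¹' {y}) ∧ (φt ⁻¹' {y}).Nonempty := by
  have hsp : IsClosedImmersion (Spec.map (CommRingCat.ofHom ρ)) := IsClosedImmersion.spec_of_surjective _ hρ
  have hci : IsClosedImmersion iX := MorphismProperty.of_isPullback (P := @IsClosedImmersion) hX.flip hsp
  have h1 := isPreconnected_fibre' φ' happ (iY y)
  rw [← image_fibre ρ f₁ f₂ φ' hφ' iX qX hX iY qY hY φt e₁ e₂ y, iX.isEmbedding.isInducing.isPreconnected_image,
    Set.image_nonempty] at h1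
  exact h1

end

section Restr

variable {A : Type u} [CommRing A] {X' Y' : Scheme.{u}} (φ' : X' ⟶ Y') (W : Y'.Opens) (hW : IsAffineOpen W)

/-- The restriction of a morphism over an affine open, with values in the spectrum. -/
noncomputable def toSp : (φ' ⁻¹ᵁ W).toScheme ⟶ Spec (CommRingCat.of Γ(Y', W)) :=
  (φ' ∣_ W) ≫ hW.isoSpec.hom

theorem toSp_fromSpec : toSp φ' W hW ≫ hW.fromSpec = (φ' ⁻¹ᵁ W).ι ≫ φ' := by
  have h1 : toSp φ' W hW ≫ hW.fromSpec = ((φ' ∣_ W) ≫ hW.isoSpec.hom) ≫ hW.fromSpec := rfl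
  rw [h1, Category.assoc, hW.isoSpec_hom_fromSpec, morphismRestrict_ι]

theorem toSp_comp (f₂ : Y' ⟶ Spec (CommRingCat.of A)) :
    toSp φ' W hW ≫ Spec.map (CommRingCat.ofHom (strR f₂ W)) = (φ' ⁻¹ᵁ W).ι ≫ (φ' ≫ f₂) := by
  have h1 := toSp_fromSpec φ' W hW
  rw [← Category.assoc, ← h1, Category.assoc, ← fromSpec_comp]

theorem appLE_congr_hom {X Y : Scheme.{u}} {f g : X ⟶ Y} (h : f = g) (U : Y.Opens) (V : X.Opens)
    (e : V ≤ f ⁻¹ᵁ U) (e' : V ≤ g ⁻¹ᵁ U) : f.appLE U V e = g.appLE U V e' := by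
  subst h
  rfl

theorem toGlobal_toSp (b : Γ(Y', W)) : Coh.toGlobal (toSp φ' W hW) b =
    (φ' ⁻¹ᵁ W).ι.appLE (φ' ⁻¹ᵁ W) ⊤ (φ' ⁻¹ᵁ W).ι_preimage_self.ge (φ'.app W b) := by
  have h1 : (Scheme.ΓSpecIso Γ(Y', W)).inv ≫ ((φ' ∣_ W) ≫ hW.isoSpec.hom).appTop =
      φ'.app W ≫ (φ' ⁻¹ᵁ W).ι.appLE (φ' ⁻¹ᵁ W) ⊤ (φ' ⁻¹ᵁ W).ι_preimage_self.ge := by
    have h2 : W.topIso.inv = W.ι.appLE W ⊤ W.ι_preimage_self.ge := by
      rw [Scheme.Opens.ι_appLE]
      rfl
    have h3 : (φ' ∣_ W).appTop = (φ' ∣_ W).appLE ⊤ ⊤ le_rfl := Scheme.Hom.app_eq_appLE _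
    rw [Scheme.Hom.comp_appTop, hW.isoSpec_hom_appTop, Category.assoc, Iso.inv_hom_id_assoc, h2, h3,
      Scheme.Hom.appLE_comp_appLE, ← Scheme.Hom.comp_appLE]
    exact appLE_congr_hom (morphismRestrict_ι φ' W) _ _ _ _
  exact congr($h1 b)

end Restr

section Main

variable {R : Type u} [CommRing R] [IsDomain R] [IsDiscreteValuationRing R] {k : Type u} [Field k] [IsAlgClosed k]
  (ρ : R →+* k) (hρ : Function.Surjective ρ) {X' Y' Xt Yt : Scheme.{u}}
  (f₁ : X' ⟶ Spec (CommRingCat.of R)) [Flat f₁] (f₂ : Y' ⟶ Spec (CommRingCat.of R)) [LocallyOfFiniteType f₂]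
  (φ' : X' ⟶ Y') [IsProper φ'] (hφ' : φ' ≫ f₂ = f₁) (happ : ∀ W : Y'.Opens, IsIso (φ'.app W))
  (hfin : ∀ y : Y', f₂ y = genericPoint (Spec (CommRingCat.of R)) → (φ' ⁻¹' {y}).Finite)
  (hdim : ∀ s, topologicalKrullDim (f₁.fiber s) ≤ 1)
  (iX : Xt ⟶ X') (qX : Xt ⟶ Spec (CommRingCat.of k)) (hX : IsPullback iX qX f₁ (Spec.map (CommRingCat.ofHom ρ)))
  (iY : Yt ⟶ Y') (qY : Yt ⟶ Spec (CommRingCat.of k)) (hY : IsPullback iY qY f₂ (Spec.map (CommRingCat.ofHom ρ)))
  (φt : Xt ⟶ Yt) (e₁ : φt ≫ iY = iX ≫ φ') (e₂ : φt ≫ qY = qX)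

theorem eq_closedPoint_or (R : Type u) [CommRing R] [IsDomain R] [IsDiscreteValuationRing R] {k : Type u} [Field k]
    (ρ : R →+* k) (hρ : Function.Surjective ρ) (s : Spec (CommRingCat.of R)) :
    s = genericPoint (Spec (CommRingCat.of R)) ∨
      ∀ z : Spec (CommRingCat.of k), Spec.map (CommRingCat.ofHom ρ) z = s := by
  have hgen : genericPoint (Spec (CommRingCat.of R)) = (⊥ : PrimeSpectrum R) := genericPoint_eq_bot_of_affine _
  by_cases h : s.asIdeal = ⊥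
  · left
    rw [hgen]
    exact PrimeSpectrum.ext h
  · right
    intro z
    have hs : s.asIdeal.IsPrime := s.2
    have h1 : s.asIdeal.IsMaximal := IsPrime.to_maximal_ideal h
    have h2 := IsLocalRing.eq_maximalIdeal h1
    apply PrimeSpectrum.ext
    rw [h2]
    change z.asIdeal.comap ρ = _
    have hz : z.asIdeal.IsPrime := z.2
    have h3 : z.asIdeal = ⊥ := (Ideal.eq_bot_or_top (K := k) z.asIdeal).resolve_right hz.ne_top
    rw [h3]
    exact IsLocalRing.eq_maximalIdeal (RingHom.ker_isMaximal_of_surjective ρ hρ)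

include hρ hφ' happ hfin hdim hX hY e₁ e₂ in
theorem locCount : ContrIso.LocCount k qX φt := by
  intro p hp V₀ hpV₀ hfinV₀
  have hsp : IsClosedImmersion (Spec.map (CommRingCat.ofHom ρ)) := IsClosedImmersion.spec_of_surjective _ hρ
  have hciX : IsClosedImmersion iX := MorphismProperty.of_isPullback (P := @IsClosedImmersion) hX.flip hsp
  have hciY : IsClosedImmersion iY := MorphismProperty.of_isPullback (P := @IsClosedImmersion) hY.flip hsp
  have hqY : LocallyOfFiniteType qY := MorphismProperty.of_isPullback hY inferInstance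
  have hLN : IsLocallyNoetherian Y' := LocallyOfFiniteType.isLocallyNoetherian f₂
  obtain ⟨W₀, hW₀o, hW₀⟩ := iY.isEmbedding.isInducing.isOpen_iff.1 V₀.isOpen
  have hpW₀ : iY p ∈ (⟨W₀, hW₀o⟩ : Y'.Opens) := by
    change p ∈ iY ⁻¹' W₀
    rw [hW₀]
    exact hpV₀
  obtain ⟨W, hW, hpW, hWW₀⟩ := exists_isAffineOpen_mem_and_subset hpW₀
  let V : Yt.Opens := iY ⁻¹ᵁ W
  have hVV₀ : V ≤ V₀ := by
    intro y hy
    have h1 : y ∈ iY ⁻¹' W₀ := hWW₀ hy
    rw [hW₀] at h1
    exact h1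
  refine ⟨V, hW.preimage iY, hpW, hVV₀, ?_⟩
  let T : X'.Opens := φ' ⁻¹ᵁ W
  let U : Xt.Opens := φt ⁻¹ᵁ V
  have hpt : ∀ x : Xt, iY (φt x) = φ' (iX x) := fun x => by
    rw [← Scheme.Hom.comp_apply, e₁, Scheme.Hom.comp_apply]
  have hrange : Set.range (U.ι ≫ iX) ⊆ Set.range T.ι := by
    rw [Scheme.Opens.range_ι]
    rintro _ ⟨x, rfl⟩
    change φ' (iX (U.ι x)) ∈ W
    rw [← hpt]
    exact x.2
  let i : U.toScheme ⟶ T.toScheme := IsOpenImmersion.lift T.ι (U.ι ≫ iX) hrange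
  have hi : i ≫ T.ι = U.ι ≫ iX := IsOpenImmersion.lift_fac _ _ _
  have hpb : IsPullback i (U.ι ≫ qX) (T.ι ≫ f₁) (Spec.map (CommRingCat.ofHom ρ)) := by
    have h1 : IsPullback i U.ι T.ι iX := by
      refine IsOpenImmersion.isPullback i U.ι T.ι iX hi.symm ?_
      rw [Scheme.Opens.opensRange_ι, Scheme.Opens.opensRange_ι]
      ext x
      change φ' (iX x) ∈ W ↔ iY (φt x) ∈ W
      rw [hpt]
    exact h1.paste_vert hX
  -- the ideal of the point
  let m : Ideal Γ(Y', W) := (evId V p hpW).comap (iY.app W).hom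
  have hmax : (evId V p hpW).IsMaximal := isMaximal_evId qY V p hpW hp
  have hsurjY : Function.Surjective (iY.app W).hom := Scheme.Hom.app_surjective iY W hW
  have hmm : m.IsMaximal := Ideal.comap_isMaximal_of_surjective _ hsurjY
  let r : R →+* Γ(Y', W) := strR f₂ W
  have hm : ∀ b : Γ(Y', W), ∃ c : R, b - r c ∈ m := by
    intro b
    obtain ⟨c, hc⟩ := exists_sub_str_mem qY V p hpW hp (iY.app W b)
    obtain ⟨c, rfl⟩ := hρ c
    refine ⟨c, ?_⟩
    change iY.app W (b - r c) ∈ evId V p hpW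
    rw [map_sub]
    have h1 : iY.app W (r c) = str qY V (ρ c) := by
      refine (app_strR iY f₂ W c).trans ?_
      change Yt.presheaf.map (homOfLE (le_top (a := V))).op (Coh.toGlobal (iY ≫ f₂) c) =
        Yt.presheaf.map (homOfLE (le_top (a := V))).op (Coh.toGlobal qY (ρ c))
      rw [hY.w, ContrDvr.toGlobal_comp_map]
    rw [h1]
    exact hc
  let ψ : T.toScheme ⟶ Spec (CommRingCat.of Γ(Y', W)) := toSp φ' W hW
  have hψprop : IsProper ψ := inferInstanceAs (IsProper ((φ' ∣_ W) ≫ hW.isoSpec.hom))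
  have hψ : Function.Surjective (Coh.toGlobal ψ) := by
    intro s
    have := happ W
    obtain ⟨s, rfl⟩ := (ConcreteCategory.bijective_of_isIso (T.ι.appLE T ⊤ T.ι_preimage_self.ge)).2 s
    obtain ⟨b, rfl⟩ := (ConcreteCategory.bijective_of_isIso (φ'.app W)).2 s
    exact ⟨b, toGlobal_toSp φ' W hW b⟩
  have hr : ψ ≫ Spec.map (CommRingCat.ofHom r) = T.ι ≫ f₁ := (toSp_comp φ' W hW f₂).trans (by rw [hφ'])
  have hψW : ∀ x : T.toScheme, hW.fromSpec (ψ x) = φ' (T.ι x) := by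
    intro x
    exact congr($(toSp_fromSpec φ' W hW) x)
  have hdimψ : ∀ y, topologicalKrullDim ↑(ψ.fiber y) ≤ 1 := by
    intro y
    refine le_trans ?_ (hdim (f₂ (hW.fromSpec y)))
    rw [FlatA.FibreDim.topologicalKrullDim_fiber_eq, FlatA.FibreDim.topologicalKrullDim_fiber_eq]
    have hmem : ∀ z : ψ ⁻¹' {y}, T.ι z.1 ∈ f₁ ⁻¹' {f₂ (hW.fromSpec y)} := by
      rintro ⟨z, hz⟩
      change f₁ (T.ι z) = f₂ (hW.fromSpec y)
      rw [← show ψ z = y from hz, hψW, ← hφ']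
      rfl
    let j : ψ ⁻¹' {y} → f₁ ⁻¹' {f₂ (hW.fromSpec y)} := fun z => ⟨T.ι z.1, hmem z⟩
    have hj : Topology.IsInducing j := by
      refine Topology.IsInducing.of_comp (g := Subtype.val)
        (Continuous.subtype_mk (T.ι.continuous.comp continuous_subtype_val) hmem) continuous_subtype_val ?_
      exact T.ι.isOpenEmbedding.isInducing.comp Topology.IsInducing.subtypeVal
    exact hj.topologicalKrullDim_le
  have haff : ∀ b ∈ m, IsAffineOpen (ψ ⁻¹ᵁ (PrimeSpectrum.basicOpen b)) := by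
    intro b hb
    refine (ContrIso.isAffineOpen_preimage ψ (PrimeSpectrum.basicOpen b)
      (IsAffineOpen.Spec_basicOpen (R := CommRingCat.of Γ(Y', W)) b) ?_).1
    intro y hy
    have hsub : T.ι '' (ψ ⁻¹' {y}) ⊆ φ' ⁻¹' {hW.fromSpec y} := by
      rintro _ ⟨x, hx, rfl⟩
      change φ' (T.ι x) = hW.fromSpec y
      rw [← hψW, show ψ x = y from hx]
    refine Set.Finite.of_finite_image (Set.Finite.subset ?_ hsub) T.ι.isOpenEmbedding.injective.injOn
    rcases eq_closedPoint_or R ρ hρ (f₂ (hW.fromSpec y)) with h | h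
    · exact hfin _ h
    · obtain ⟨y₂, hy₂, -⟩ := Scheme.exists_preimage_of_isPullback hY (hW.fromSpec y) (⊥ : PrimeSpectrum k)
        (h (⊥ : PrimeSpectrum k)).symm
      have hyW : hW.fromSpec y ∈ W := by
        have h1 : hW.fromSpec y ∈ Set.range hW.fromSpec := ⟨y, rfl⟩
        rw [hW.range_fromSpec] at h1
        exact h1
      have hy₂V : y₂ ∈ V := by
        change iY y₂ ∈ W
        rw [show iY y₂ = hW.fromSpec y from hy₂]
        exact hyW
      have hy₂p : y₂ ≠ p := by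
        rintro rfl
        have h1 : iY.app W b ∈ evId V y₂ hpW := hb
        rw [app_mem_evId_iff iY W y₂ hpW b, mem_evId_iff] at h1
        apply h1
        have h2 : y ∈ hW.fromSpec ⁻¹ᵁ Y'.basicOpen b := by
          rw [hW.fromSpec_preimage_basicOpen b]
          exact hy
        rw [show iY y₂ = hW.fromSpec y from hy₂]
        exact h2
      rw [← show iY y₂ = hW.fromSpec y from hy₂, ← image_fibre ρ f₁ f₂ φ' hφ' iX qX hX iY qY hY φt e₁ e₂]
      exact (hfinV₀ y₂ (hVV₀ hy₂V) hy₂p).image _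
  have hNB : IsNoetherianRing Γ(Y', W) := IsLocallyNoetherian.component_noetherian ⟨W, hW⟩
  obtain ⟨hlen1, hlen2⟩ := ContrDvr.count_main ρ hρ (T.ι ≫ f₁) ψ hψ r hr i (U.ι ≫ qX) hpb hdimψ m hm haff
  refine ⟨?_, hlen2⟩
  refine Eq.trans ?_ hlen1
  let _ : Algebra Γ(Yt, V) Γ(Xt, U) := (φt.app V).hom.toAlgebra
  let _ : Algebra Γ(T.toScheme, ⊤) Γ(U.toScheme, ⊤) := i.appTop.hom.toAlgebra
  let ε : Γ(Xt, U) ≃+* Γ(U.toScheme, ⊤) :=
    (asIso (U.ι.appLE U ⊤ U.ι_preimage_self.ge)).commRingCatIsoToRingEquiv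
  refine length_transfer (Coh.toGlobal ψ) hψ (iY.app W).hom hsurjY ε ?_
  intro b
  have h1 : Coh.toGlobal ψ b = T.ι.appLE T ⊤ T.ι_preimage_self.ge (φ'.app W b) := toGlobal_toSp φ' W hW b
  refine Eq.trans ?_ (congrArg (fun z : Γ(T.toScheme, ⊤) => i.appTop z) h1.symm)
  have h2 : iY.app W ≫ φt.app V ≫ U.ι.appLE U ⊤ U.ι_preimage_self.ge =
      φ'.app W ≫ T.ι.appLE T ⊤ T.ι_preimage_self.ge ≫ i.appTop := by
    have e3 : i.appTop = i.appLE ⊤ ⊤ le_rfl := Scheme.Hom.app_eq_appLE _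
    have e4 : φt.app V ≫ U.ι.appLE U ⊤ U.ι_preimage_self.ge = (U.ι ≫ φt).appLE V ⊤ U.ι_preimage_self.ge :=
      (Scheme.Hom.comp_appLE _ _ _ _ _).symm
    have e5 : iY.app W ≫ (U.ι ≫ φt).appLE V ⊤ U.ι_preimage_self.ge =
      ((U.ι ≫ φt) ≫ iY).appLE W ⊤ U.ι_preimage_self.ge :=
      (Scheme.Hom.comp_appLE _ _ _ _ _).symm
    rw [e3, e4, e5, Scheme.Hom.appLE_comp_appLE, ← Scheme.Hom.comp_appLE]
    refine appLE_congr_hom ?_ _ _ _ _
    rw [hi, Category.assoc, Category.assoc, e₁]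
  exact congr($h2 b)

end Main

end Groth.Agent.Curv2.K96.ContrLift
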