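import Groth.Agent.Curv2.K96.ContrTop
import Groth.Agent.CurvSt.K896.NodeMeetG
import Groth.Agent.Curves.K325.NodeInterSch
import Groth.Agent.Models.H74.H0Card
import Groth.Agent.Curv2.K96.SpecCount

/-!
# The local count on a nodal curve near an exceptional fibre
-/

set_option autoImplicit false
universe u

open CategoryTheory CategoryTheory.Limits AlgebraicGeometry Opposite TopologicalSpace

namespace Groth.Agent.Curv2.K96.ContrLoc

open Groth.Agent Groth.Agent.Divis.CartierBasic Groth.Agent.Models.H74.EvIdeal

/-- The count for `A → B → N → G`, `B` the preimage of the constants. -/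
theorem length_count {A B N G : Type u} [CommRing A] [CommRing B] [CommRing N] [CommRing G] [Algebra A B] [Algebra A N]
    [Algebra A G] (β : B →ₐ[A] N) (π : N →ₐ[A] G) (hβ : Function.Injective β) (hπ : Function.Surjective π)
    (m : Ideal A) [m.IsMaximal] (hm0 : ∀ a ∈ m, algebraMap A G a = 0) [Nontrivial G]
    (hc : ∀ n : N, (∃ b, β b = n) ↔ ∃ a : A, algebraMap A G a = π n) :
    Module.length A (N ⧸ LinearMap.range (Algebra.linearMap A N)) + 1 =
      Module.length A G + Module.length A (B ⧸ LinearMap.range (Algebra.linearMap A B)) := by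
  -- `N/B`
  have hle : LinearMap.range (Algebra.linearMap A N) ≤ LinearMap.range β.toLinearMap := by
    rintro _ ⟨a, rfl⟩
    exact ⟨algebraMap A B a, β.commutes a⟩
  have hle' : LinearMap.range (Algebra.linearMap A B) ≤
      (LinearMap.range (Algebra.linearMap A N)).comap β.toLinearMap := by
    rintro _ ⟨a, rfl⟩
    exact ⟨a, (β.commutes a).symm⟩
  let f : (B ⧸ LinearMap.range (Algebra.linearMap A B)) →ₗ[A] (N ⧸ LinearMap.range (Algebra.linearMap A N)) :=
    Submodule.mapQ _ _ β.toLinearMap hle'
  let g : (N ⧸ LinearMap.range (Algebra.linearMap A N)) →ₗ[A] (N ⧸ LinearMap.range β.toLinearMap) :=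
    Submodule.factor hle
  have hf : Function.Injective f := by
    rw [injective_iff_map_eq_zero]
    intro x hx
    obtain ⟨b, rfl⟩ := Submodule.Quotient.mk_surjective _ x
    have h1 : f (Submodule.Quotient.mk b) = Submodule.Quotient.mk (β b) := rfl
    rw [h1, Submodule.Quotient.mk_eq_zero] at hx
    obtain ⟨a, ha⟩ := hx
    rw [Submodule.Quotient.mk_eq_zero]
    refine ⟨a, hβ ?_⟩
    rw [← ha]
    exact β.commutes a
  have hg : Function.Surjective g := by
    intro x
    obtain ⟨n, rfl⟩ := Submodule.Quotient.mk_surjective _ x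
    exact ⟨Submodule.Quotient.mk n, rfl⟩
  have hfg : Function.Exact f g := by
    intro x
    obtain ⟨n, rfl⟩ := Submodule.Quotient.mk_surjective _ x
    have h1 : g (Submodule.Quotient.mk n) = Submodule.Quotient.mk n := rfl
    rw [h1, Submodule.Quotient.mk_eq_zero]
    constructor
    · rintro ⟨b, hb⟩
      exact ⟨Submodule.Quotient.mk b, congrArg _ hb⟩
    · rintro ⟨y, hy⟩
      obtain ⟨b, rfl⟩ := Submodule.Quotient.mk_surjective _ y
      have h2 : f (Submodule.Quotient.mk b) = Submodule.Quotient.mk (β b) := rfl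
      rw [h2] at hy
      obtain ⟨a, ha⟩ := (Submodule.Quotient.eq _).1 hy
      refine ⟨b - algebraMap A B a, ?_⟩
      change β (b - algebraMap A B a) = n
      rw [map_sub, AlgHom.commutes]
      rw [Algebra.linearMap_apply] at ha
      rw [ha]
      abel
  have h1 := Module.length_eq_add_of_exact f g hf hg hfg
  -- `G/A`
  have h2 : Module.length A (N ⧸ LinearMap.range β.toLinearMap) =
      Module.length A (G ⧸ LinearMap.range (Algebra.linearMap A G)) := by
    let φ : N →ₗ[A] (G ⧸ LinearMap.range (Algebra.linearMap A G)) := (Submodule.mkQ _).comp π.toLinearMap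
    have hφ : Function.Surjective φ := (Submodule.mkQ_surjective _).comp hπ
    have hker : LinearMap.ker φ = LinearMap.range β.toLinearMap := by
      ext n
      rw [LinearMap.mem_ker]
      change (Submodule.Quotient.mk (π n) : G ⧸ LinearMap.range (Algebra.linearMap A G)) = 0 ↔ _
      rw [Submodule.Quotient.mk_eq_zero]
      exact (hc n).symm
    rw [← hker]
    exact (φ.quotKerEquivOfSurjective hφ).length_eq
  have h3 : Module.length A G = Module.length A (LinearMap.range (Algebra.linearMap A G)) +
      Module.length A (G ⧸ LinearMap.range (Algebra.linearMap A G)) :=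
    Module.length_eq_add_of_exact (Submodule.subtype _) (Submodule.mkQ _) (Submodule.subtype_injective _)
      (Submodule.mkQ_surjective _) (LinearMap.exact_subtype_mkQ _)
  have h4 : Module.length A (LinearMap.range (Algebra.linearMap A G)) = 1 := by
    rw [← (Algebra.linearMap A G).quotKerEquivRange.length_eq]
    have hk : LinearMap.ker (Algebra.linearMap A G) = m := by
      refine (Ideal.IsMaximal.eq_of_le (inferInstance : m.IsMaximal) ?_ ?_).symm
      · intro h
        have h5 : (1 : A) ∈ LinearMap.ker (Algebra.linearMap A G) := by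
          rw [h]
          trivial
        rw [LinearMap.mem_ker, Algebra.linearMap_apply, map_one] at h5
        exact one_ne_zero h5
      · intro a ha
        exact hm0 a ha
    rw [hk, Module.length_eq_one_iff]
    exact isSimpleModule_iff_isCoatom.2 (Ideal.isMaximal_def.1 inferInstance)
  rw [h1, h2, h3, h4]
  ring

section Sch

variable {X : Scheme.{u}}

theorem inf_eq_bot [IsReduced X] (Z : Closeds X) :
    Scheme.IdealSheafData.vanishingIdeal Z ⊓
      Scheme.IdealSheafData.vanishingIdeal ⟨closure (Z : Set X)ᶜ, isClosed_closure⟩ = ⊥ := by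
  rw [← Scheme.IdealSheafData.vanishingIdeal_sup]
  have h1 : Z ⊔ (⟨closure (Z : Set X)ᶜ, isClosed_closure⟩ : Closeds X) = ⊤ := by
    apply SetLike.coe_injective
    rw [Closeds.coe_sup, Closeds.coe_top, Set.eq_univ_iff_forall]
    intro x
    by_cases hx : x ∈ (Z : Set X)
    · exact Or.inl hx
    · exact Or.inr (subset_closure hx)
  rw [h1, Scheme.IdealSheafData.vanishingIdeal_top, Scheme.nilradical_eq_bot]

theorem radical_vanishingIdeal (Z : Closeds X) :
    (Scheme.IdealSheafData.vanishingIdeal Z).radical = Scheme.IdealSheafData.vanishingIdeal Z := by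
  rw [← Scheme.IdealSheafData.vanishingIdeal_support]
  congr 1

/-- The closure of the complement, as a closed subset. -/
abbrev cc (Z : Closeds X) : Closeds X := ⟨closure (Z : Set X)ᶜ, isClosed_closure⟩

/-- Both `Z` and the closure of its complement pass through the points of their intersection. -/
def Gen (Z : Set X) : Prop :=
  ∀ t ∈ Z, t ∈ closure Zᶜ → IsClosed ({t} : Set X) ∧ (∃ z, z ⤳ t ∧ z ≠ t ∧ z ∈ Z ∧ z ∉ closure Zᶜ) ∧
    (∃ w, w ⤳ t ∧ w ≠ t ∧ w ∉ Z ∧ w ∈ closure Zᶜ)

open Scheme.IdealSheafData in
theorem transversal (k : Type u) [Field k] [X.Over (Spec (CommRingCat.of k))]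
    [LocallyOfFiniteType (X ↘ Spec (CommRingCat.of k))] [IsReduced X] (hX : Curv2.AtWorstNodal k X) (Z : Closeds X)
    (hZ : Gen (Z : Set X)) (t : X) (ht : t ∈ (Z : Set X)) (ht' : t ∈ closure (Z : Set X)ᶜ) :
    stalkIdeal (vanishingIdeal Z) t ⊔ stalkIdeal (vanishingIdeal (cc Z)) t =
      IsLocalRing.maximalIdeal (X.presheaf.stalk t) ∧
    IsRegularLocalRing (X.presheaf.stalk t ⧸ stalkIdeal (vanishingIdeal (cc Z)) t) := by
  obtain ⟨hc, ⟨z, hz1, hz2, hz3, hz4⟩, ⟨w, hw1, hw2, hw3, hw4⟩⟩ := hZ t ht ht'
  have hI : ((vanishingIdeal Z).support : Set X) = Z := coe_support_vanishingIdeal _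
  have hJ : ((vanishingIdeal (cc Z)).support : Set X) = closure (Z : Set X)ᶜ := coe_support_vanishingIdeal _
  refine (K896.NodeMeet.transversal k X hX (vanishingIdeal Z) (vanishingIdeal (cc Z)) (radical_vanishingIdeal _)
    (radical_vanishingIdeal _) ?_ t hc hz1 hz2 (hI ▸ hz3) (hJ ▸ hz4) hw1 hw2 (hI ▸ hw3) (hJ ▸ hw4)).2
  rw [hI, hJ, Set.eq_univ_iff_forall]
  intro x
  by_cases hx : x ∈ (Z : Set X)
  · exact Or.inl hx
  · exact Or.inr (subset_closure hx)

open Scheme.IdealSheafData in
theorem support_sup' (Z : Closeds X) :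
    ((vanishingIdeal Z ⊔ vanishingIdeal (cc Z)).support : Set X) = (Z : Set X) ∩ closure (Z : Set X)ᶜ := by
  rw [support_sup, Closeds.coe_inf, coe_support_vanishingIdeal, coe_support_vanishingIdeal]
  rfl

open Scheme.IdealSheafData in
theorem isReduced_sup (k : Type u) [Field k] [X.Over (Spec (CommRingCat.of k))]
    [LocallyOfFiniteType (X ↘ Spec (CommRingCat.of k))] [IsReduced X] (hX : Curv2.AtWorstNodal k X) (Z : Closeds X)
    (hZ : Gen (Z : Set X)) : IsReduced (vanishingIdeal Z ⊔ vanishingIdeal (cc Z)).subscheme := by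
  refine K325.NodeInterSch.isReduced_of_stalkIdeal _ fun x hx => ?_
  have hx' : x ∈ (Z : Set X) ∩ closure (Z : Set X)ᶜ := by
    rw [← support_sup']
    exact hx
  rw [stalkIdeal_sup]
  exact (transversal k hX Z hZ x hx'.1 hx'.2).1

open Scheme.IdealSheafData in
theorem finite_inter [NoetherianSpace X] (Z : Closeds X) (hZ : Gen (Z : Set X)) :
    ((Z : Set X) ∩ closure (Z : Set X)ᶜ).Finite :=
  ContrTop.finite_of_isClosed (Z.isClosed.inter isClosed_closure) fun t ht => (hZ t ht.1 ht.2).1

open Scheme.IdealSheafData in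
theorem finite_discrete [NoetherianSpace X] (Z : Closeds X) (hZ : Gen (Z : Set X)) :
    Finite (vanishingIdeal Z ⊔ vanishingIdeal (cc Z)).subscheme ∧
      DiscreteTopology (vanishingIdeal Z ⊔ vanishingIdeal (cc Z)).subscheme := by
  set T := vanishingIdeal Z ⊔ vanishingIdeal (cc Z) with hT
  have hr : Set.range T.subschemeι = (Z : Set X) ∩ closure (Z : Set X)ᶜ := by
    rw [range_subschemeι, hT, support_sup']
  have hinj := T.subschemeι.isEmbedding.injective
  have hF : Finite T.subscheme := by
    have h1 : Finite (Set.range T.subschemeι) := by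
      rw [hr]
      exact finite_inter Z hZ
    refine Finite.of_injective (Set.rangeFactorization T.subschemeι) fun a b h => ?_
    have h2 := congrArg Subtype.val h
    exact hinj h2
  have : T1Space T.subscheme := by
    refine ⟨fun x => ?_⟩
    have h1 : T.subschemeι x ∈ (Z : Set X) ∩ closure (Z : Set X)ᶜ := hr ▸ ⟨x, rfl⟩
    have h2 := (hZ _ h1.1 h1.2).1.preimage T.subschemeι.continuous
    have h3 : T.subschemeι ⁻¹' {T.subschemeι x} = {x} := by
      ext y
      exact ⟨fun h => hinj h, fun h => congrArg _ h⟩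
    rwa [h3] at h2
  exact ⟨hF, inferInstance⟩

open Scheme.IdealSheafData in
theorem natCard_eq (Z : Closeds X) :
    ENat.card (vanishingIdeal Z ⊔ vanishingIdeal (cc Z)).subscheme = ((Z : Set X) ∩ closure (Z : Set X)ᶜ).encard := by
  set T := vanishingIdeal Z ⊔ vanishingIdeal (cc Z) with hT
  have hr : Set.range T.subschemeι = (Z : Set X) ∩ closure (Z : Set X)ᶜ := by
    rw [range_subschemeι, hT, support_sup']
  rw [← hr]
  exact ENat.card_congr (Equiv.ofInjective _ T.subschemeι.isEmbedding.injective)

end Sch

section Sections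

variable {k : Type u} [Field k]

theorem str_top {T : Scheme.{u}} (f : T ⟶ Spec (CommRingCat.of k)) (c : k) : str f ⊤ c = Coh.toGlobal f c := by
  change T.presheaf.map (homOfLE (le_top (a := (⊤ : T.Opens)))).op (Coh.toGlobal f c) = _
  have h1 : (homOfLE (le_top (a := (⊤ : T.Opens)))).op = 𝟙 _ := rfl
  rw [h1, CategoryTheory.Functor.map_id]
  rfl

/-- Sections of a finite discrete reduced scheme. -/
theorem length_sections_discrete [IsAlgClosed k] {T : Scheme.{u}} (f : T ⟶ Spec (CommRingCat.of k)) [IsProper f]
    [IsReduced T] [Finite T] [DiscreteTopology T] [Nonempty T] (W : T.Opens) (hW : W = ⊤) :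
    @Module.length k Γ(T, W) _ _ (Module.compHom _ (str f W)) = ENat.card T := by
  subst hW
  let iT : T.Over (Spec (CommRingCat.of k)) := ⟨f⟩
  have iP : IsProper (T ↘ Spec (CommRingCat.of k)) := ‹IsProper f›
  have h1 := Groth.Agent.Models.H74.H0Card.finite_and_finrank k (Z := T)
  let iM : Module k Γ(T, ⊤) := Module.compHom _ (str f ⊤)
  let e : Coh.HH T (Coh.structureModule T) 0 ≃ₗ[k] Γ(T, ⊤) :=
    { (CurvesB.HZero.equivO T : Coh.HH T (Coh.structureModule T) 0 ≃+ Γ(T, ⊤)) with
      map_smul' := fun c x => by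
        have h2 := CurvesB.HZero.equivO_smul k c x
        refine h2.trans ?_
        exact congrArg (· * (CurvesB.HZero.equivO T x)) (str_top f c).symm }
  have h2 : Module.length k Γ(T, ⊤) = Module.length k (Coh.HH T (Coh.structureModule T) 0) := e.length_eq.symm
  rw [h2]
  have hcard : Nat.card (_root_.ConnectedComponents T) = Nat.card T := by
    refine Nat.card_congr (Equiv.ofBijective (_root_.ConnectedComponents.mk : T → _root_.ConnectedComponents T)
      ⟨?_, Quot.mk_surjective⟩).symm
    intro x y hxy
    have h3 : connectedComponent x = connectedComponent y := _root_.ConnectedComponents.coe_eq_coe.1 hxy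
    rw [connectedComponent_eq_singleton, connectedComponent_eq_singleton] at h3
    exact Set.singleton_injective h3
  have hpos : 0 < Module.finrank k (Coh.HH T (Coh.structureModule T) 0) := by
    rw [h1.2, hcard]
    exact Nat.card_pos
  have hfin : Module.Finite k (Coh.HH T (Coh.structureModule T) 0) := Module.finite_of_finrank_pos hpos
  rw [Module.length_eq_finrank, h1.2, hcard]
  exact (ENat.card_eq_coe_natCard T).symm

end Sections

end Groth.Agent.Curv2.K96.ContrLoc
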