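import Groth.Agent.Curv2.K96.ContrPt
import Groth.Agent.CurvesC.RegNormal
import Groth.Agent.Divis.CartierStalk
import Groth.Agent.Ega4C.NormalRing2

/-!
# Local rings of curves
-/

set_option autoImplicit false
universe u

open CategoryTheory CategoryTheory.Limits AlgebraicGeometry Opposite TopologicalSpace IsLocalRing

namespace Groth.Agent.Curv2.K96.ContrStalk

open Groth.Agent Groth.Agent.Divis.CartierBasic

section Primes

variable {Y : Scheme.{u}} (p : Y)

/-- The primes of the local ring, other than the maximal one, are minimal in dimension one. -/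
theorem mem_minimalPrimes (hdim : topologicalKrullDim Y ≤ 1) (P : Ideal (Y.presheaf.stalk p)) (hP : P.IsPrime)
    (hne : P ≠ maximalIdeal (Y.presheaf.stalk p)) : P ∈ minimalPrimes (Y.presheaf.stalk p) := by
  refine ⟨⟨hP, bot_le⟩, fun Q hQ hQP => ?_⟩
  have hQ' : Q.IsPrime := hQ.1
  have hinj := (Y.fromSpecStalk p).isEmbedding.injective
  let P' : PrimeSpectrum (Y.presheaf.stalk p) := ⟨P, hP⟩
  let Q' : PrimeSpectrum (Y.presheaf.stalk p) := ⟨Q, hQ'⟩
  have h1 : Q' ⤳ P' := (PrimeSpectrum.le_iff_specializes Q' P').1 hQP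
  have h2 : Y.fromSpecStalk p Q' ⤳ Y.fromSpecStalk p P' := h1.map (Y.fromSpecStalk p).continuous
  have h3 : P' ⤳ closedPoint (Y.presheaf.stalk p) := (PrimeSpectrum.le_iff_specializes _ _).1
    (IsLocalRing.le_maximalIdeal hP.ne_top)
  have h4 : Y.fromSpecStalk p P' ⤳ p := by
    have := h3.map (Y.fromSpecStalk p).continuous
    rwa [Scheme.fromSpecStalk_closedPoint] at this
  by_cases h : Y.fromSpecStalk p Q' = Y.fromSpecStalk p P'
  · have h5 : Q' = P' := hinj h
    exact (congrArg PrimeSpectrum.asIdeal h5).ge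
  · have h5 := ContrTop.isClosed_singleton_of_specializes hdim h2 h
    have h6 : p ∈ closure ({Y.fromSpecStalk p P'} : Set Y) := specializes_iff_mem_closure.1 h4
    rw [h5.closure_eq] at h6
    have h7 : Y.fromSpecStalk p (closedPoint (Y.presheaf.stalk p)) = Y.fromSpecStalk p P' := by
      rw [Scheme.fromSpecStalk_closedPoint]
      exact h6
    have h8 := hinj h7
    exact absurd (congrArg PrimeSpectrum.asIdeal h8).symm hne

/-- The maximal ideal of the local ring at a point with a proper generization is not minimal. -/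
theorem maximalIdeal_notMem (y : Y) (h : y ⤳ p) (hne : y ≠ p) :
    maximalIdeal (Y.presheaf.stalk p) ∉ minimalPrimes (Y.presheaf.stalk p) := by
  intro hm
  have h1 : y ∈ Set.range (Y.fromSpecStalk p) := by
    rw [Scheme.range_fromSpecStalk]
    exact h
  obtain ⟨P, rfl⟩ := h1
  apply hne
  have h2 : P.asIdeal ≤ maximalIdeal (Y.presheaf.stalk p) := IsLocalRing.le_maximalIdeal P.2.ne_top
  have h3 := hm.2 ⟨P.2, bot_le⟩ h2
  have h4 : P = closedPoint (Y.presheaf.stalk p) := PrimeSpectrum.ext (le_antisymm h2 h3)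
  rw [h4, Scheme.fromSpecStalk_closedPoint]

end Primes

/-- The local ring of a closed subscheme at a point where the quotient is regular. -/
theorem normal_of_regular {X : Scheme.{u}} (J : X.IdealSheafData) (t : J.subscheme)
    (h : IsRegularLocalRing (X.presheaf.stalk (J.subschemeι t) ⧸ stalkIdeal J (J.subschemeι t))) :
    IsDomain (J.subscheme.presheaf.stalk t) ∧ IsIntegrallyClosed (J.subscheme.presheaf.stalk t) := by
  have hs := Divis.CartierStalk.stalkMap_subschemeι_surjective J t
  have hk := Divis.CartierStalk.ker_stalkMap_subschemeι J t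
  let e : (X.presheaf.stalk (J.subschemeι t) ⧸ stalkIdeal J (J.subschemeι t)) ≃+* J.subscheme.presheaf.stalk t :=
    (Ideal.quotEquivOfEq hk.symm).trans (RingHom.quotientKerEquivOfSurjective hs)
  exact Ega4C.NormalRing2.isDomain_isIntegrallyClosed_of_ringEquiv e
    ⟨CurvesC.RegNormal.isDomain _, CurvesC.RegNormal.isIntegrallyClosed _⟩

/-- The localization of the functions on an affine open at a prime. -/
theorem normal_atPrime {C : Scheme.{u}} {W : C.Opens} (hW : IsAffineOpen W) (q : PrimeSpectrum Γ(C, W))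
    (h : IsDomain (C.presheaf.stalk (hW.fromSpec q)) ∧ IsIntegrallyClosed (C.presheaf.stalk (hW.fromSpec q))) :
    IsDomain (Localization.AtPrime q.asIdeal) ∧ IsIntegrallyClosed (Localization.AtPrime q.asIdeal) := by
  let _ : Algebra Γ(C, W) (C.presheaf.stalk (hW.fromSpec q)) :=
    TopCat.Presheaf.algebra_section_stalk C.presheaf ⟨hW.fromSpec q, ContrPt.fromSpec_mem hW q⟩
  have h1 : IsLocalization.AtPrime (C.presheaf.stalk (hW.fromSpec q)) q.asIdeal :=
    hW.isLocalization_stalk' q (ContrPt.fromSpec_mem hW q)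
  exact Ega4C.NormalRing2.isDomain_isIntegrallyClosed_of_ringEquiv
    (IsLocalization.algEquiv q.asIdeal.primeCompl _ (Localization.AtPrime q.asIdeal)).toRingEquiv h

/-- A prime with a smaller one. -/
theorem notMem_minimalPrimes {C : Scheme.{u}} {W : C.Opens} (hW : IsAffineOpen W) (q : PrimeSpectrum Γ(C, W))
    (w : C) (hw : w ⤳ hW.fromSpec q) (hne : w ≠ hW.fromSpec q) : q.asIdeal ∉ minimalPrimes Γ(C, W) := by
  intro hm
  have hwW : w ∈ W := hw.mem_open W.isOpen (ContrPt.fromSpec_mem hW q)
  have h1 : w ∈ Set.range hW.fromSpec := by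
    rw [IsAffineOpen.range_fromSpec]
    exact hwW
  obtain ⟨q', rfl⟩ := h1
  apply hne
  have h2 : q' ⤳ q := hW.fromSpec.isOpenEmbedding.isInducing.specializes_iff.1 hw
  have h3 : q'.asIdeal ≤ q.asIdeal := (PrimeSpectrum.le_iff_specializes q' q).2 h2
  have h4 := hm.2 ⟨q'.2, bot_le⟩ h3
  rw [PrimeSpectrum.ext (le_antisymm h3 h4)]

end Groth.Agent.Curv2.K96.ContrStalk
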