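import Groth.Agent.Curv2.K96.AlgDelta
import Groth.Agent.Curv2.K96.ContrH1
import Groth.Agent.Curv2.K96.ContrStalk
import Groth.Agent.Curv2.K96.ContrIso
import Groth.Prelude.Def_Brnch

/-!
# Branches and delta invariant at the image of an exceptional fibre
-/

set_option autoImplicit false
universe u

open CategoryTheory CategoryTheory.Limits AlgebraicGeometry Opposite TopologicalSpace

namespace Groth.Agent.Curv2.K96.ContrMain

open Groth.Agent ContrLoc ContrCount K838.Ferr Scheme.IdealSheafData Groth.Agent.Models.H74.EvIdeal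

theorem exists_pow_killed {B : Type u} [CommRing B] [IsNoetherianRing B] (m : Ideal B) (F : Type u) [AddCommGroup F]
    [Module B F] [Module.Finite B F] (h : ∀ b ∈ m, ∀ x : F, ∃ n : ℕ, b ^ n • x = 0) :
    ∃ N : ℕ, ∀ b ∈ m ^ N, ∀ x : F, b • x = 0 := by
  have h1 : m ≤ (Module.annihilator B F).radical := by
    intro b hb
    obtain ⟨s, hs⟩ := (inferInstance : Module.Finite B F).fg_top
    choose n hn using h b hb
    refine ⟨s.sup n, ?_⟩
    rw [Module.mem_annihilator]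
    intro x
    have hx : x ∈ Submodule.span B (s : Set F) := by rw [hs]; trivial
    induction hx using Submodule.span_induction with
    | mem x hx =>
      have h2 : n x ≤ s.sup n := Finset.le_sup hx
      rw [← Nat.sub_add_cancel h2, pow_add, mul_smul, hn, smul_zero]
    | zero => exact smul_zero _
    | add x y _ _ hx hy => rw [smul_add, hx, hy, add_zero]
    | smul a x _ hx => rw [smul_comm, hx, smul_zero]
  obtain ⟨N, hN⟩ := Ideal.exists_pow_le_of_le_radical_of_fg h1 (IsNoetherian.noetherian m)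
  exact ⟨N, fun b hb x => Module.mem_annihilator.1 (hN hb) x⟩

theorem finite_appLE_congr {C Y : Scheme.{u}} (χ : C ⟶ Y) {U₁ U₂ : Y.Opens} {W₁ W₂ : C.Opens} (hU : U₁ = U₂)
    (hW : W₁ = W₂) (e₁ : W₁ ≤ χ ⁻¹ᵁ U₁) (e₂ : W₂ ≤ χ ⁻¹ᵁ U₂) (h : (χ.appLE U₁ W₁ e₁).hom.Finite) :
    (χ.appLE U₂ W₂ e₂).hom.Finite := by
  subst hU hW
  exact h

set_option backward.isDefEq.respectTransparency false in
theorem finite_app {C Y : Scheme.{u}} (χ : C ⟶ Y) (V : Y.Opens) (hV : IsAffineOpen V) (h : IsFinite (χ ∣_ V)) :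
    (χ.app V).hom.Finite := by
  have : IsAffine V := hV
  have h1 := ((HasAffineProperty.iff_of_isAffine (P := @IsFinite)).1 h).2
  rw [Scheme.Hom.app_eq_appLE]
  simp only [morphismRestrict_app', TopologicalSpace.Opens.map_top] at h1
  exact finite_appLE_congr χ (by simp) (by simp) _ _ h1

theorem isLocalization_evId {Y : Scheme.{u}} {V : Y.Opens} (hV : IsAffineOpen V) (p : Y) (hpV : p ∈ V)
    (m : Ideal Γ(Y, V)) [m.IsPrime] (hm : m = evId V p hpV) :
    letI : Algebra Γ(Y, V) (Y.presheaf.stalk p) := TopCat.Presheaf.algebra_section_stalk Y.presheaf ⟨p, hpV⟩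
    IsLocalization.AtPrime (Y.presheaf.stalk p) m := by
  rw [ContrPt.evId_eq hV] at hm
  subst hm
  exact hV.isLocalization_stalk ⟨p, hpV⟩

variable {k : Type u} [Field k] [IsAlgClosed k] {X Y : Scheme.{u}} [X.Over (Spec (CommRingCat.of k))]
  [IsProper (X ↘ Spec (CommRingCat.of k))] (qY : Y ⟶ Spec (CommRingCat.of k)) [LocallyOfFiniteType qY]
  (ψ : X ⟶ Y) [IsProper ψ] (hψ : ψ ≫ qY = X ↘ Spec (CommRingCat.of k)) (Z : Closeds X) (p : Y)
  (hZ : (Z : Set X) = ψ ⁻¹' {p}) (V : Y.Opens) (hV : IsAffineOpen V) (hpV : p ∈ V)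

include hψ hZ hV hpV in
theorem local_result (hX : Curv2.AtWorstNodal k X) [IsReduced X] [NoetherianSpace X] [IsReduced Y]
    (hdimY : topologicalKrullDim Y ≤ 1) (hsurj : Function.Surjective ψ) (hp : IsClosed ({p} : Set Y))
    (hgen : Gen (Z : Set X)) (hconn : _root_.IsConnected (Z : Set X))
    (hne : ((Z : Set X) ∩ closure (Z : Set X)ᶜ).Nonempty)
    (hfin : ∀ y ∈ V, y ≠ p → (ψ ⁻¹' {y}).Finite) (hiso : ∀ D : Y.Opens, D ≤ V → p ∉ D → IsIso (ψ.app D))
    (hlen : letI : Algebra Γ(Y, V) Γ(X, ψ ⁻¹ᵁ V) := (ψ.app V).hom.toAlgebra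
      letI : (ψ ⁻¹ᵁ V).toScheme.Over (Spec (CommRingCat.of k)) := ⟨(ψ ⁻¹ᵁ V).ι ≫ (X ↘ Spec (CommRingCat.of k))⟩
      Module.length Γ(Y, V) (Γ(X, ψ ⁻¹ᵁ V) ⧸ LinearMap.range (Algebra.linearMap Γ(Y, V) Γ(X, ψ ⁻¹ᵁ V))) =
        Module.length k (Coh.HH (ψ ⁻¹ᵁ V).toScheme (Coh.structureModule _) 1) ∧
      Module.length k (Coh.HH (ψ ⁻¹ᵁ V).toScheme (Coh.structureModule _) 1) ≠ ⊤) :
    Brnch.numBranchesAt Y p = ((Z : Set X) ∩ closure (Z : Set X)ᶜ).encard ∧
    Curv2.deltaInv (Y.presheaf.stalk p) + 1 =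
      ((@Curv2.genus k _ (II Z).subscheme ⟨(II Z).subschemeι ≫ (X ↘ Spec (CommRingCat.of k))⟩ : ℕ) : ℕ∞) +
        Brnch.numBranchesAt Y p := by
  have hZ' : ∀ z ∈ (Z : Set X), ψ z = p := by
    intro z hz
    rw [hZ] at hz
    exact hz
  have hLN : IsLocallyNoetherian Y := LocallyOfFiniteType.isLocallyNoetherian qY
  let χ := (JJ Z).subschemeι ≫ ψ
  have hχinj : Function.Injective (JJ Z).subschemeι := (JJ Z).subschemeι.isEmbedding.injective
  have hrange : Set.range (JJ Z).subschemeι = closure (Z : Set X)ᶜ := by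
    rw [range_subschemeι, coe_support_vanishingIdeal]
    rfl
  have himg : (JJ Z).subschemeι '' (χ ⁻¹' {p}) = (Z : Set X) ∩ closure (Z : Set X)ᶜ := by
    have h1 : χ ⁻¹' {p} = (JJ Z).subschemeι ⁻¹' (Z : Set X) := by
      rw [hZ]
      rfl
    rw [h1, Set.image_preimage_eq_inter_range, hrange]
  have hfinχ : ∀ y ∈ V, (χ ⁻¹' {y}).Finite := by
    intro y hy
    by_cases hyp : y = p
    · subst hyp
      refine Set.Finite.of_finite_image ?_ hχinj.injOn
      rw [himg]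
      exact finite_inter Z hgen
    · exact Set.Finite.preimage (f := (JJ Z).subschemeι) hχinj.injOn (hfin y hy hyp)
  obtain ⟨haff, hfinV⟩ := ContrIso.isAffineOpen_preimage χ V hV hfinχ
  obtain ⟨hinj, hcount⟩ := loc_count qY ψ hψ Z p hZ' V hpV hX hp hgen hconn hne haff
  have hH1 := ContrH1.h1_eq (k := k) Z (ψ ⁻¹ᵁ V) (by rw [hZ]; intro x hx; change ψ x ∈ V; rw [show ψ x = p from hx]; exact hpV)
    haff
  let a1 : Algebra Γ(Y, V) Γ(X, ψ ⁻¹ᵁ V) := (ψ.app V).hom.toAlgebra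
  let a2 : Algebra Γ(Y, V) Γ((JJ Z).subscheme, χ ⁻¹ᵁ V) := (χ.app V).hom.toAlgebra
  let a3 : Algebra Γ(Y, V) (Y.presheaf.stalk p) := TopCat.Presheaf.algebra_section_stalk Y.presheaf ⟨p, hpV⟩
  have hm : (evId V p hpV).IsMaximal := isMaximal_evId qY V p hpV hp
  have hloc : IsLocalization.AtPrime (Y.presheaf.stalk p) (evId V p hpV) := isLocalization_evId hV p hpV _ rfl
  have hfinA : Module.Finite Γ(Y, V) Γ((JJ Z).subscheme, χ ⁻¹ᵁ V) := finite_app χ V hV hfinV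
  have hNA : IsNoetherianRing Γ(Y, V) := IsLocallyNoetherian.component_noetherian ⟨V, hV⟩
  have hNO : IsNoetherianRing (Y.presheaf.stalk p) := inferInstance
  have hinjN : Function.Injective (algebraMap Γ(Y, V) Γ((JJ Z).subscheme, χ ⁻¹ᵁ V)) := by
    have h1 := hinj.comp (ContrIso.app_injective ψ hsurj V)
    intro a b hab
    apply h1
    change (JJ Z).subschemeι.app (ψ ⁻¹ᵁ V) (ψ.app V a) = (JJ Z).subschemeι.app (ψ ⁻¹ᵁ V) (ψ.app V b)
    have h2 : ∀ c, (JJ Z).subschemeι.app (ψ ⁻¹ᵁ V) (ψ.app V c) = χ.app V c := fun c => by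
      rw [Scheme.Hom.comp_app]
      rfl
    rw [h2, h2]
    exact hab
  have hF := isFerr Z
  have hsurjD : ∀ D : Y.Opens, D ≤ V → p ∉ D → Function.Surjective (χ.app D) := by
    intro D hD hpD
    have h1 := hiso D hD hpD
    have h2 : IsIso ((JJ Z).subschemeι.app (ψ ⁻¹ᵁ D)) := by
      refine K896.Ferr.isIso_app_left hF (ψ ⁻¹ᵁ D) ?_
      ext z
      refine ⟨fun hz => ?_, fun h => h.elim⟩
      apply hpD
      have h3 : ψ ((II Z).subschemeι z) ∈ D := hz
      rwa [hZ' _ (mem_Z Z z)] at h3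
    have h3 : IsIso (χ.app D) := by
      rw [Scheme.Hom.comp_app]
      exact IsIso.comp_isIso' h1 h2
    exact (ConcreteCategory.bijective_of_isIso (χ.app D)).2
  obtain ⟨r, hr⟩ := exists_pow_killed (evId V p hpV)
    (Γ((JJ Z).subscheme, χ ⁻¹ᵁ V) ⧸ LinearMap.range (Algebra.linearMap Γ(Y, V) Γ((JJ Z).subscheme, χ ⁻¹ᵁ V)))
    (by
      intro f hf x
      obtain ⟨n, rfl⟩ := Submodule.Quotient.mk_surjective _ x
      obtain ⟨j, a, ha⟩ := ContrPt.exists_pow χ hV haff p hpV hsurjD f hf n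
      refine ⟨j, ?_⟩
      rw [← Submodule.Quotient.mk_smul, Submodule.Quotient.mk_eq_zero]
      refine ⟨a, ?_⟩
      rw [Algebra.linearMap_apply, Algebra.smul_def, map_pow]
      exact ha)
  have hkill : ∀ f ∈ evId V p hpV ^ r, ∀ n : Γ((JJ Z).subscheme, χ ⁻¹ᵁ V), ∃ a : Γ(Y, V),
      algebraMap Γ(Y, V) Γ((JJ Z).subscheme, χ ⁻¹ᵁ V) a = algebraMap Γ(Y, V) Γ((JJ Z).subscheme, χ ⁻¹ᵁ V) f * n := by
    intro f hf n
    have h1 := hr f hf (Submodule.Quotient.mk n)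
    rw [← Submodule.Quotient.mk_smul, Submodule.Quotient.mk_eq_zero] at h1
    obtain ⟨a, ha⟩ := h1
    exact ⟨a, by rw [← Algebra.smul_def, ← ha, Algebra.linearMap_apply]⟩
  have hpt : ∀ (q : PrimeSpectrum Γ((JJ Z).subscheme, χ ⁻¹ᵁ V)),
      q.asIdeal.comap (algebraMap Γ(Y, V) Γ((JJ Z).subscheme, χ ⁻¹ᵁ V)) = evId V p hpV →
      (JJ Z).subschemeι (haff.fromSpec q) ∈ (Z : Set X) ∩ closure (Z : Set X)ᶜ := by
    intro q hq
    rw [← himg]
    exact ⟨_, (ContrPt.comap_eq_iff χ hV haff p hpV q).1 hq, rfl⟩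
  have hmain := AlgDelta.main Γ(Y, V) Γ((JJ Z).subscheme, χ ⁻¹ᵁ V) (Y.presheaf.stalk p) (evId V p hpV) hinjN
    (fun P hP hPne => ContrStalk.mem_minimalPrimes p hdimY P hP hPne)
    (by
      obtain ⟨t, ht1, ht2⟩ := hne
      obtain ⟨-, -, ⟨w, hw1, -, hw3, -⟩⟩ := hgen t ht1 ht2
      have h1 := hw1.map ψ.continuous
      rw [hZ' t ht1] at h1
      refine ContrStalk.maximalIdeal_notMem p (ψ w) h1 fun h => hw3 ?_
      rw [hZ]
      exact h)
    r hkill
    (by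
      intro q hqp hq
      have h1 := hpt ⟨q, hqp⟩ hq
      exact ContrStalk.normal_atPrime haff ⟨q, hqp⟩
        (ContrStalk.normal_of_regular (JJ Z) _ (transversal k hX Z hgen _ h1.1 h1.2).2))
    (by
      intro q hqp hq
      have h1 := hpt ⟨q, hqp⟩ hq
      obtain ⟨-, -, ⟨w, hw1, hw2, -, hw4⟩⟩ := hgen _ h1.1 h1.2
      have h2 : w ∈ Set.range (JJ Z).subschemeι := by
        rw [hrange]
        exact hw4
      obtain ⟨w', rfl⟩ := h2
      have h3 : w' ⤳ haff.fromSpec ⟨q, hqp⟩ := (JJ Z).subschemeι.isEmbedding.isInducing.specializes_iff.1 hw1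
      exact ContrStalk.notMem_minimalPrimes haff ⟨q, hqp⟩ w' h3 fun h => hw2 (by rw [h]))
  have hnb : Brnch.numBranchesAt Y p = ((Z : Set X) ∩ closure (Z : Set X)ᶜ).encard := by
    refine hmain.2.trans ?_
    rw [← himg, hχinj.encard_image]
    exact ContrPt.encard_eq χ hV haff p hpV
  refine ⟨hnb, ?_⟩
  rw [hmain.1, hnb]
  refine hcount.trans ?_
  rw [hlen.1, hH1, add_comm]
  congr 1
  have hne' := hlen.2
  rw [hH1] at hne'
  let o2 : (II Z).subscheme.Over (Spec (CommRingCat.of k)) := ⟨(II Z).subschemeι ≫ (X ↘ Spec (CommRingCat.of k))⟩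
  have hfk : Module.Finite k (Coh.HH (II Z).subscheme (Coh.structureModule _) 1) := by
    have h1 := Module.length_ne_top_iff.1 hne'
    have h2 := (isFiniteLength_iff_isNoetherian_isArtinian.1 h1).1
    exact Module.IsNoetherian.finite k _
  exact Module.length_eq_finrank k (Coh.HH (II Z).subscheme (Coh.structureModule _) 1)

end Groth.Agent.Curv2.K96.ContrMain
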