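import Groth.Agent.Models.H74.EvIdeal
import Groth.Agent.Curv2.K96.ContrTop
import Mathlib.AlgebraicGeometry.Stalk

/-!
# Points of affine opens and primes
-/

set_option autoImplicit false
universe u

open CategoryTheory CategoryTheory.Limits AlgebraicGeometry Opposite TopologicalSpace

namespace Groth.Agent.Curv2.K96.ContrPt

open Groth.Agent Groth.Agent.Models.H74.EvIdeal

theorem evId_eq {X : Scheme.{u}} {V : X.Opens} (hV : IsAffineOpen V) (z : X) (hz : z ∈ V) :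
    evId V z hz = (hV.primeIdealOf ⟨z, hz⟩).asIdeal := by
  ext f
  rw [mem_evId_iff]
  have h1 : hV.fromSpec ⁻¹ᵁ X.basicOpen f = PrimeSpectrum.basicOpen f :=
    hV.fromSpec_preimage_basicOpen f
  have h2 : hV.fromSpec (hV.primeIdealOf ⟨z, hz⟩) = z := hV.fromSpec_primeIdealOf ⟨z, hz⟩
  have h3 : (hV.primeIdealOf ⟨z, hz⟩ : Spec Γ(X, V)) ∈ hV.fromSpec ⁻¹ᵁ X.basicOpen f ↔
      z ∈ X.basicOpen f := by
    change hV.fromSpec (hV.primeIdealOf ⟨z, hz⟩) ∈ X.basicOpen f ↔ _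
    rw [h2]
  rw [← h3, h1]
  exact not_not

theorem fromSpec_mem {X : Scheme.{u}} {V : X.Opens} (hV : IsAffineOpen V) (q : PrimeSpectrum Γ(X, V)) :
    hV.fromSpec q ∈ V := by
  have h1 : hV.fromSpec q ∈ Set.range hV.fromSpec := ⟨q, rfl⟩
  rw [IsAffineOpen.range_fromSpec] at h1
  exact h1

theorem primeIdealOf_fromSpec {X : Scheme.{u}} {V : X.Opens} (hV : IsAffineOpen V) (q : PrimeSpectrum Γ(X, V)) :
    hV.primeIdealOf ⟨hV.fromSpec q, fromSpec_mem hV q⟩ = q :=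
  hV.fromSpec.isOpenEmbedding.injective (hV.fromSpec_primeIdealOf ⟨hV.fromSpec q, fromSpec_mem hV q⟩)

theorem res_zero_of_eq {C : Scheme.{u}} {W U₁ U₂ : C.Opens} (e : U₁ = U₂) (h₁ : U₁ ≤ W) (h₂ : U₂ ≤ W) (x : Γ(C, W))
    (h : C.presheaf.map (homOfLE h₁).op x = 0) : C.presheaf.map (homOfLE h₂).op x = 0 := by
  subst e
  exact h

section Affine

variable {C Y : Scheme.{u}} (χ : C ⟶ Y) {V : Y.Opens} (hV : IsAffineOpen V) (hW : IsAffineOpen (χ ⁻¹ᵁ V))

theorem fromSpec_comap (q : PrimeSpectrum Γ(C, χ ⁻¹ᵁ V)) :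
    hV.fromSpec (PrimeSpectrum.comap (χ.app V).hom q) = χ (hW.fromSpec q) := by
  have h1 := hV.SpecMap_appLE_fromSpec χ hW le_rfl
  have h2 := congrArg (fun g => g.base q) h1
  rw [Scheme.Hom.app_eq_appLE]
  exact h2

include hV in
/-- Primes over the ideal of a point are the points of the fibre. -/
theorem comap_eq_iff (p : Y) (hpV : p ∈ V) (q : PrimeSpectrum Γ(C, χ ⁻¹ᵁ V)) :
    q.asIdeal.comap (χ.app V).hom = evId V p hpV ↔ χ (hW.fromSpec q) = p := by
  rw [← fromSpec_comap χ hV hW, evId_eq hV]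
  constructor
  · intro h
    have h1 : PrimeSpectrum.comap (χ.app V).hom q = hV.primeIdealOf ⟨p, hpV⟩ := PrimeSpectrum.ext h
    rw [h1]
    exact hV.fromSpec_primeIdealOf ⟨p, hpV⟩
  · intro h
    have h1 : PrimeSpectrum.comap (χ.app V).hom q = hV.primeIdealOf ⟨p, hpV⟩ := by
      apply hV.fromSpec.isOpenEmbedding.injective
      rw [h]
      exact (hV.fromSpec_primeIdealOf ⟨p, hpV⟩).symm
    exact congrArg PrimeSpectrum.asIdeal h1

include hV hW in
theorem encard_eq (p : Y) (hpV : p ∈ V) :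
    {q : PrimeSpectrum Γ(C, χ ⁻¹ᵁ V) | q.asIdeal.comap (χ.app V).hom = evId V p hpV}.encard = (χ ⁻¹' {p}).encard := by
  have hinj : Function.Injective hW.fromSpec := hW.fromSpec.isOpenEmbedding.injective
  have h1 : hW.fromSpec '' {q : PrimeSpectrum Γ(C, χ ⁻¹ᵁ V) | q.asIdeal.comap (χ.app V).hom = evId V p hpV} =
      χ ⁻¹' {p} := by
    ext c
    constructor
    · rintro ⟨q, hq, rfl⟩
      exact (comap_eq_iff χ hV hW p hpV q).1 hq
    · intro hc
      have hcW : c ∈ χ ⁻¹ᵁ V := by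
        change χ c ∈ V
        rw [show χ c = p from hc]
        exact hpV
      refine ⟨hW.primeIdealOf ⟨c, hcW⟩, ?_, hW.fromSpec_primeIdealOf ⟨c, hcW⟩⟩
      refine (comap_eq_iff χ hV hW p hpV _).2 ?_
      rw [hW.fromSpec_primeIdealOf ⟨c, hcW⟩]
      exact hc
  rw [← h1]
  exact (hinj.encard_image _).symm

include hV hW in
/-- If `χ` is bijective on functions over the complement of `p`, a power of a function vanishing at `p` is a
denominator. -/
theorem exists_pow (p : Y) (hpV : p ∈ V)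
    (h : ∀ D : Y.Opens, D ≤ V → p ∉ D → Function.Surjective (χ.app D)) (f : Γ(Y, V)) (hf : f ∈ evId V p hpV)
    (n : Γ(C, χ ⁻¹ᵁ V)) : ∃ (r : ℕ) (a : Γ(Y, V)), χ.app V a = χ.app V f ^ r * n := by
  have hD := (mem_evId_iff V p hpV f).1 hf
  have hDV : Y.basicOpen f ≤ V := Y.basicOpen_le f
  obtain ⟨a', ha'⟩ := h (Y.basicOpen f) hDV hD (C.presheaf.map (homOfLE (χ.preimage_mono hDV)).op n)
  obtain ⟨j, a, haj⟩ := exists_eq_pow_mul_of_isAffineOpen Y V hV f a'
  have h1 : (χ.app V a - χ.app V f ^ j * n) |_ (C.basicOpen (χ.app V f)) = 0 := by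
    have e1 : ∀ x : Γ(Y, V), C.presheaf.map (homOfLE (χ.preimage_mono hDV)).op (χ.app V x) =
        χ.app (Y.basicOpen f) (Y.presheaf.map (homOfLE hDV).op x) := fun x =>
      congr($(χ.naturality (homOfLE hDV).op) x).symm
    have e2 : Y.presheaf.map (homOfLE hDV).op a = (Y.presheaf.map (homOfLE hDV).op f) ^ j * a' := haj
    refine res_zero_of_eq (Scheme.preimage_basicOpen χ f) (χ.preimage_mono hDV) (C.basicOpen_le _) _ ?_
    rw [map_sub, map_mul, map_pow, e1, e1, e2, map_mul, map_pow, ha', sub_self]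
  obtain ⟨i, hi⟩ := exists_pow_mul_eq_zero_of_res_basicOpen_eq_zero_of_isAffineOpen C hW _ _ h1
  refine ⟨i + j, f ^ i * a, ?_⟩
  rw [mul_sub, sub_eq_zero] at hi
  rw [map_mul, map_pow, hi, pow_add, mul_assoc]

end Affine

end Groth.Agent.Curv2.K96.ContrPt
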