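import Groth.Agent.Ega4C.SkFlat
import Groth.Agent.Ega4A.RkBasic
import Groth.Agent.CalgA.SerreCrit
import Groth.Agent.CalgA.SerreLocal
import Groth.Agent.S2611

/-!
# Normality of the total space of a flat family with reduced fibres of dimension at most one

`normal_of_flat`: let `A → B` be a flat homomorphism of Noetherian rings, `A` normal, all of whose
fibre local rings are reduced of dimension at most one.  If the local rings of `B` at the primes lying
over minimal primes of `A` are normal domains, then `B` is normal.
-/

set_option autoImplicit false

universe u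

namespace Groth.Agent.Curv2.K96.NormalAlg

open LocCoh IsLocalRing Groth.Agent.Ega4C.SkFlat

/-- A reduced Noetherian local ring of dimension at most one satisfies `min 2 dim ≤ depth`. -/
theorem minLe_two_of_isReduced (R : Type u) [CommRing R] [IsNoetherianRing R] [IsLocalRing R]
    [IsReduced R] (hdim : ringKrullDim R ≤ 1) : MinLe 2 R := by
  have h1 : HasSk 1 R R := CalgA.SerreCrit.hasSk_one_of_isReduced
  rw [hasSk_iff'] at h1
  have h2 := h1 (maximalIdeal R)
  rw [← minLe_congr (R := R) 1 (Ega4A.RkBasic.localizationMaximalEquiv R).toRingEquiv] at h2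
  unfold MinLe at h2 ⊢
  refine le_trans ?_ h2
  rw [min_eq_right (hdim.trans (by norm_num)), min_eq_right (hdim.trans (by norm_num))]

/-- A reduced Noetherian local ring of dimension zero is regular. -/
theorem isRegularLocalRing_of_isReduced (R : Type u) [CommRing R] [IsNoetherianRing R] [IsLocalRing R]
    [IsReduced R] (hdim : ringKrullDim R ≤ 0) : IsRegularLocalRing R := by
  have h1 : HasRk 0 R := CalgA.SerreCrit.hasRk_zero_of_isReduced
  refine Ega4A.RkBasic.isRegularLocalRing_of_hasRk h1 ?_
  have h2 := IsLocalRing.maximalIdeal_height_eq_ringKrullDim (R := R)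
  rw [← h2] at hdim
  exact_mod_cast hdim

variable {A B : Type u} [CommRing A] [CommRing B] [Algebra A B]

theorem normal_of_flat [IsNoetherianRing A] [IsNoetherianRing B] [Module.Flat A B]
    (hA : ∀ (p : Ideal A) [p.IsPrime],
      IsDomain (Localization.AtPrime p) ∧ IsIntegrallyClosed (Localization.AtPrime p))
    (hred : ∀ (q : Ideal B) [q.IsPrime], IsReduced (EGA4.FibLocRing A B q))
    (hdim : ∀ (q : Ideal B) [q.IsPrime], ringKrullDim (EGA4.FibLocRing A B q) ≤ 1)
    (hgen : ∀ (q : Ideal B) [q.IsPrime],
      ringKrullDim (Localization.AtPrime (q.comap (algebraMap A B))) = 0 →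
      IsDomain (Localization.AtPrime q) ∧ IsIntegrallyClosed (Localization.AtPrime q))
    (q : Ideal B) [q.IsPrime] :
    IsDomain (Localization.AtPrime q) ∧ IsIntegrallyClosed (Localization.AtPrime q) := by
  obtain ⟨hR, hS⟩ := (S0601.result A).mp hA
  refine (S0601.result B).mpr ⟨?_, ?_⟩ q
  · intro r hr hht
    have hloc := isLocalRing_fibLocRing (B := A) r
    have := hred r
    obtain ⟨h1, -⟩ := dim_depth_at (B := A) r
    have h2 : ringKrullDim (Localization.AtPrime r) ≤ 1 := by
      rw [IsLocalization.AtPrime.ringKrullDim_eq_height r]
      exact_mod_cast hht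
    obtain ⟨a, ha⟩ := Ega4C.FlatLocal.exists_ringKrullDim_eq
      (Localization.AtPrime (r.comap (algebraMap A B)))
    obtain ⟨c, hc⟩ := Ega4C.FlatLocal.exists_ringKrullDim_eq (EGA4.FibLocRing A B r)
    have h2' := h2
    rw [h1, ha, hc] at h2
    have h3 : a + c ≤ 1 := by exact_mod_cast h2
    rcases Nat.eq_zero_or_pos c with hc0 | hc0
    · -- the fibre local ring is a field
      have h4 : IsRegularLocalRing (EGA4.FibLocRing A B r) := by
        apply isRegularLocalRing_of_isReduced
        rw [hc, hc0]; rfl
      have h5 : IsRegularLocalRing (Localization.AtPrime (r.comap (algebraMap A B))) := by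
        refine hR _ ?_
        have h6 := IsLocalization.AtPrime.ringKrullDim_eq_height (r.comap (algebraMap A B))
          (Localization.AtPrime (r.comap (algebraMap A B)))
        rw [ha] at h6
        have h7 : (a : ℕ∞) = (r.comap (algebraMap A B)).height := by exact_mod_cast h6
        rw [← h7]
        exact_mod_cast (by omega : a ≤ 1)
      set p : Ideal A := r.comap (algebraMap A B) with hp
      let : Algebra (Localization.AtPrime p) (Localization.AtPrime r) :=
        (Localization.localRingHom p r (algebraMap A B) rfl).toAlgebra
      have hloc' : IsLocalHom (algebraMap (Localization.AtPrime p) (Localization.AtPrime r)) :=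
        Localization.isLocalHom_localRingHom p r (algebraMap A B) rfl
      have hflat : Module.Flat (Localization.AtPrime p) (Localization.AtPrime r) :=
        RingHom.Flat.localRingHom (f := algebraMap A B)
          ((RingHom.flat_algebraMap_iff).mpr inferInstance) r p rfl
      have htow : ∀ b : A, algebraMap (Localization.AtPrime p) (Localization.AtPrime r)
          (algebraMap A (Localization.AtPrime p) b) = algebraMap A (Localization.AtPrime r) b := by
        intro b
        rw [IsScalarTower.algebraMap_apply A B (Localization.AtPrime r)]
        exact Localization.localRingHom_to_map p r (algebraMap A B) rfl b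
      have hBtow : IsScalarTower A (Localization.AtPrime p) (Localization.AtPrime r) :=
        IsScalarTower.of_algebraMap_eq fun b => (htow b).symm
      have e2 : (maximalIdeal (Localization.AtPrime p)).map
          (algebraMap (Localization.AtPrime p) (Localization.AtPrime r)) =
          (r.comap (algebraMap A B)).map (algebraMap A (Localization.AtPrime r)) := by
        rw [← Localization.AtPrime.map_eq_maximalIdeal, Ideal.map_map,
          ← IsScalarTower.algebraMap_eq]
      have e := Ideal.quotEquivOfEq e2
      exact Ega4A.RkBasic.isRegularLocalRing_of_flat_of_fibre (Localization.AtPrime p)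
        (Localization.AtPrime r) (IsRegularLocalRing.of_ringEquiv
          (R := EGA4.FibLocRing A B r) e.symm)
    · have ha0 : a = 0 := by omega
      have h4 := hgen r (by rw [ha, ha0]; rfl)
      obtain ⟨h5, h6⟩ := h4
      refine Ega4A.RkBasic.isRegularLocalRing_of_hasRk
        (S2611.normal_r1_s2 (Localization.AtPrime r)).1 ?_
      have h7 := IsLocalRing.maximalIdeal_height_eq_ringKrullDim (R := Localization.AtPrime r)
      rw [← h7] at h2'
      exact_mod_cast h2'
  · refine hasSk_of_flat (B := A) 2 hS ?_
    intro r hr hloc
    have := hred r
    exact minLe_two_of_isReduced _ (hdim r)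

end Groth.Agent.Curv2.K96.NormalAlg
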