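import Groth.Agent.Curv2.K96.NormalAlg
import Groth.Agent.Ega43.FibSch1
import Mathlib.AlgebraicGeometry.Morphisms.Flat
import Mathlib.AlgebraicGeometry.Noetherian

/-!
# Normality of the total space of a flat family of reduced curves over a normal base (schemes)
-/

set_option autoImplicit false

universe u

open AlgebraicGeometry CategoryTheory IsLocalRing

namespace Groth.Agent.Curv2.K96.NormalSch

/-- The local ring is an integrally closed domain. -/
def Nrm (R : Type u) [CommRing R] : Prop := IsDomain R ∧ IsIntegrallyClosed R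

theorem nrm_of_equiv {R S : Type u} [CommRing R] [CommRing S] (e : R ≃+* S) (h : Nrm R) : Nrm S := by
  obtain ⟨h1, h2⟩ := h
  exact ⟨e.symm.toMulEquiv.isDomain _, IsIntegrallyClosed.of_equiv e⟩

theorem normal_of_flat {X S : Scheme.{u}} (f : X ⟶ S) [Flat f] [LocallyOfFiniteType f]
    [IsLocallyNoetherian S]
    (hS : ∀ s : S, Nrm (S.presheaf.stalk s))
    (hred : ∀ x : X, _root_.IsReduced ((f.fiber (f x)).presheaf.stalk (f.asFiber x)))
    (hdim : ∀ x : X, ringKrullDim ((f.fiber (f x)).presheaf.stalk (f.asFiber x)) ≤ 1)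
    (hgen : ∀ x : X, ringKrullDim (S.presheaf.stalk (f x)) = 0 → Nrm (X.presheaf.stalk x)) (x : X) :
    Nrm (X.presheaf.stalk x) := by
  have hX : IsLocallyNoetherian X := LocallyOfFiniteType.isLocallyNoetherian f
  obtain ⟨V, hV, hxV, -⟩ := exists_isAffineOpen_mem_and_subset (x := f x) (U := ⊤) trivial
  obtain ⟨W, hW, hxW, hWV⟩ := exists_isAffineOpen_mem_and_subset (x := x) (U := f ⁻¹ᵁ V) hxV
  have e : W ≤ f ⁻¹ᵁ V := hWV
  let : Algebra Γ(S, V) Γ(X, W) := (f.appLE V W e).hom.toAlgebra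
  have halg : algebraMap Γ(S, V) Γ(X, W) = (f.appLE V W e).hom := rfl
  have hflat : Module.Flat Γ(S, V) Γ(X, W) := f.flat_appLE hV hW e
  have hNV : IsNoetherianRing Γ(S, V) := IsLocallyNoetherian.component_noetherian ⟨V, hV⟩
  have hNW : IsNoetherianRing Γ(X, W) := IsLocallyNoetherian.component_noetherian ⟨W, hW⟩
  -- stalks at points of affine opens
  have eX : ∀ (y : X) (hy : y ∈ W),
      Nonempty (Localization.AtPrime (hW.primeIdealOf ⟨y, hy⟩).asIdeal ≃+* X.presheaf.stalk y) := by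
    intro y hy
    let _ := X.presheaf.algebra_section_stalk ⟨y, hy⟩
    have := hW.isLocalization_stalk ⟨y, hy⟩
    exact ⟨(IsLocalization.algEquiv (hW.primeIdealOf ⟨y, hy⟩).asIdeal.primeCompl _ _).toRingEquiv⟩
  have eS : ∀ (y : S) (hy : y ∈ V),
      Nonempty (Localization.AtPrime (hV.primeIdealOf ⟨y, hy⟩).asIdeal ≃+* S.presheaf.stalk y) := by
    intro y hy
    let _ := S.presheaf.algebra_section_stalk ⟨y, hy⟩
    have := hV.isLocalization_stalk ⟨y, hy⟩
    exact ⟨(IsLocalization.algEquiv (hV.primeIdealOf ⟨y, hy⟩).asIdeal.primeCompl _ _).toRingEquiv⟩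
  have hcomap : ∀ (y : X) (hy : y ∈ W),
      (hW.primeIdealOf ⟨y, hy⟩).asIdeal.comap (algebraMap Γ(S, V) Γ(X, W)) =
        (hV.primeIdealOf ⟨f y, e hy⟩).asIdeal := by
    intro y hy
    have h := IsAffineOpen.comap_primeIdealOf_appLE V hV W hW e hy
    rw [halg]
    exact congrArg PrimeSpectrum.asIdeal h
  have hfW : ∀ (P : Ideal Γ(X, W) → Prop), (∀ (y : X) (hy : y ∈ W),
      P (hW.primeIdealOf ⟨y, hy⟩).asIdeal) → ∀ (q : Ideal Γ(X, W)), q.IsPrime → P q := by
    intro P hP q hq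
    have h1 : hW.fromSpec ⟨q, hq⟩ ∈ W := by
      have := Set.mem_range_self (f := hW.fromSpec) ⟨q, hq⟩
      rwa [hW.range_fromSpec] at this
    have h2 := hP _ h1
    rwa [Ega43.FibSch1.primeIdealOf_fromSpec hW ⟨q, hq⟩ h1] at h2
  have hfV : ∀ (P : Ideal Γ(S, V) → Prop), (∀ (y : S) (hy : y ∈ V),
      P (hV.primeIdealOf ⟨y, hy⟩).asIdeal) → ∀ (q : Ideal Γ(S, V)), q.IsPrime → P q := by
    intro P hP q hq
    have h1 : hV.fromSpec ⟨q, hq⟩ ∈ V := by
      have := Set.mem_range_self (f := hV.fromSpec) ⟨q, hq⟩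
      rwa [hV.range_fromSpec] at this
    have h2 := hP _ h1
    rwa [Ega43.FibSch1.primeIdealOf_fromSpec hV ⟨q, hq⟩ h1] at h2
  have key := NormalAlg.normal_of_flat (A := Γ(S, V)) (B := Γ(X, W)) ?_ ?_ ?_ ?_
    (hW.primeIdealOf ⟨x, hxW⟩).asIdeal
  · exact nrm_of_equiv (eX x hxW).some key
  · intro p hp
    refine hfV (fun p => ∀ [p.IsPrime], IsDomain (Localization.AtPrime p) ∧
      IsIntegrallyClosed (Localization.AtPrime p)) ?_ p hp
    intro y hy _
    exact nrm_of_equiv (eS y hy).some.symm (hS y)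
  · intro q hq
    refine hfW (fun q => ∀ [q.IsPrime], _root_.IsReduced (EGA4.FibLocRing Γ(S, V) Γ(X, W) q)) ?_ q hq
    intro y hy _
    obtain ⟨e1⟩ := Ega43.FibSch1.nonempty_fibLocRing_equiv f hV hW e halg y hy
    have := hred y
    exact isReduced_of_injective e1 e1.injective
  · intro q hq
    refine hfW (fun q => ∀ [q.IsPrime], ringKrullDim (EGA4.FibLocRing Γ(S, V) Γ(X, W) q) ≤ 1) ?_ q hq
    intro y hy _
    obtain ⟨e1⟩ := Ega43.FibSch1.nonempty_fibLocRing_equiv f hV hW e halg y hy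
    rw [ringKrullDim_eq_of_ringEquiv e1]
    exact hdim y
  · intro q hq
    refine hfW (fun q => ∀ [q.IsPrime], ringKrullDim (Localization.AtPrime
      (q.comap (algebraMap Γ(S, V) Γ(X, W)))) = 0 → IsDomain (Localization.AtPrime q) ∧
      IsIntegrallyClosed (Localization.AtPrime q)) ?_ q hq
    intro y hy _ h0
    refine nrm_of_equiv (eX y hy).some.symm (hgen y ?_)
    rw [← ringKrullDim_eq_of_ringEquiv (eS (f y) (e hy)).some, ← h0]
    rw [IsLocalization.AtPrime.ringKrullDim_eq_height (hV.primeIdealOf ⟨f y, e hy⟩).asIdeal,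
      IsLocalization.AtPrime.ringKrullDim_eq_height
        ((hW.primeIdealOf ⟨y, hy⟩).asIdeal.comap (algebraMap Γ(S, V) Γ(X, W))), hcomap y hy]

end Groth.Agent.Curv2.K96.NormalSch
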